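import Cfsg.Agent.Lib.Perm.ConjFactor.Main

/-!
# Assembly: every even permutation is a product of two conjugates with two transpositions
-/

set_option autoImplicit false
set_option linter.style.haveILetI false

namespace CfsgLib.Perm.ConjFactor

open Equiv Equiv.Perm

/-- First five-cycle. -/
def fiveL : Perm (Fin 7) := ⟨![0, 1, 3, 4, 6, 2, 5], ![0, 1, 5, 2, 3, 6, 4], by decide, by decide⟩
/-- Second five-cycle. -/
def fiveR : Perm (Fin 7) := ⟨![1, 5, 2, 3, 6, 4, 0], ![6, 0, 2, 3, 5, 1, 4], by decide, by decide⟩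
/-- A permutation of type `2 2 3`. -/
def mixL : Perm (Fin 7) := ⟨![2, 5, 0, 6, 1, 4, 3], ![2, 4, 0, 6, 5, 1, 3], by decide, by decide⟩
/-- Its partner. -/
def mixR : Perm (Fin 7) := ⟨![4, 0, 6, 5, 1, 3, 2], ![1, 4, 6, 5, 0, 3, 2], by decide, by decide⟩
/-- The seven-cycle. -/
def sevenC : Perm (Fin 7) := finRotate 7

theorem five_prod : fiveL * fiveR = sevenC := by decide
theorem mix_prod : mixL * mixR = sevenC := by decide
theorem fiveL_fix : fiveL 0 = 0 := by decide
theorem mix_type : mixL.cycleType = mixR.cycleType ∧ 2 ≤ mixL.cycleType.count 2 ∧ sign mixL = 1 := by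
  refine ⟨by decide +kernel, by decide +kernel, by decide +kernel⟩
theorem five_type : fiveL.cycleType = fiveR.cycleType ∧ sign fiveL = 1 := by
  refine ⟨by decide +kernel, by decide +kernel⟩

variable {α : Type*} [Fintype α] [DecidableEq α]

/-- Transport of a model on `Fin m` to a set. -/
theorem exists_transport {S : Finset α} {m : ℕ} (hS : S.card = m) {v : α} (hv : v ∈ S) (i : Fin m) :
    ∃ F : Perm (Fin m) →* Perm α, (∀ π, (F π).support ⊆ S) ∧ (∀ π, (F π).cycleType = π.cycleType) ∧
      (∀ π, sign (F π) = sign π) ∧ (∀ π, π i = i → F π v = v) := by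
  let e₀ : {z // z ∈ S} ≃ Fin m := Fintype.equivFinOfCardEq (by rw [Fintype.card_coe, hS])
  let e := e₀.trans (Equiv.swap (e₀ ⟨v, hv⟩) i)
  have hev : e ⟨v, hv⟩ = i := Equiv.swap_apply_left _ _
  let F : Perm (Fin m) →* Perm α :=
    (Perm.ofSubtype (p := fun z => z ∈ S)).comp e.symm.permCongrHom.toMonoidHom
  refine ⟨F, fun π z hz => ?_, fun π => ?_, fun π => ?_, fun π hπ => ?_⟩
  · by_contra hzS
    exact mem_support.1 hz (ofSubtype_apply_of_not_mem _ hzS)
  · show (Perm.ofSubtype (e.symm.permCongr π)).cycleType = π.cycleType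
    rw [show Perm.ofSubtype (e.symm.permCongr π) = π.extendDomain e.symm from ?_, cycleType_extendDomain]
    ext z
    by_cases hz : z ∈ S
    · rw [ofSubtype_apply_of_mem _ hz, Perm.extendDomain_apply_subtype _ _ hz]
      rfl
    · rw [ofSubtype_apply_of_not_mem _ hz, Perm.extendDomain_apply_not_subtype _ _ hz]
  · show sign (Perm.ofSubtype (e.symm.permCongr π)) = sign π
    rw [sign_ofSubtype, sign_permCongr]
  · show Perm.ofSubtype (e.symm.permCongr π) v = v
    rw [ofSubtype_apply_of_mem _ hv]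
    simp [Equiv.permCongr_apply, hev, hπ]
    rw [← hev, e.symm_apply_apply]

theorem seven_cycle : sevenC.IsCycle ∧ sevenC.support = Finset.univ :=
  ⟨isCycle_finRotate, support_finRotate⟩

theorem fac_seven {c : Perm α} (hc : c.IsCycle) (h7 : c.support.card = 7) : Fac c 2 1 := by
  obtain ⟨v, hv⟩ := Finset.card_pos.1 (show 0 < c.support.card by omega)
  obtain ⟨F, hsupp, htype, hsign, -⟩ := exists_transport h7 hv (0 : Fin 7)
  obtain ⟨h1, h2, h3⟩ := mix_type
  have hcs : (F sevenC).support = c.support := Finset.eq_of_subset_of_card_le (hsupp _)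
    (by rw [← sum_cycleType (F sevenC), htype, seven_cycle.1.cycleType, seven_cycle.2]; simp [h7])
  refine Fac.of_cycleType (σ := F sevenC) ⟨F mixL, F mixR, by rw [← map_mul, mix_prod],
    by rw [htype, htype, h1], hcs ▸ hsupp _, hcs ▸ hsupp _, by rw [htype]; exact h2, by rw [hsign, h3]⟩ ?_
  rw [htype, seven_cycle.1.cycleType, hc.cycleType, seven_cycle.2, h7]
  simp

theorem fac_long {c : Perm α} (hc : c.IsCycle) {k : ℕ} (hk : c.support.card = 2 * k + 7) (hk2 : 2 ≤ k)
    (hev : Even k) : Fac c 2 1 := by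
  obtain ⟨B, hBc, hB7⟩ := Finset.exists_subset_card_eq (s := c.support) (n := 7) (by omega)
  obtain ⟨v, hvB⟩ := Finset.card_pos.1 (show 0 < B.card by omega)
  set A := insert v (c.support \ B) with hA
  have hvn : v ∉ c.support \ B := fun h => (Finset.mem_sdiff.1 h).2 hvB
  have hAc : A.card = 2 * k + 1 := by
    rw [hA, Finset.card_insert_of_notMem hvn, Finset.card_sdiff_of_subset hBc]; omega
  obtain ⟨f, x, y, hf, hx, hy, hfs, hyv, tx, ty, hfc⟩ := exists_odd_piece A (Finset.mem_insert_self _ _) hAc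
  obtain ⟨hfcyc, hfsupp⟩ := hfc.resolve_left fun h => by omega
  obtain ⟨F, hsupp, htype, hsign, hfix⟩ := exists_transport hB7 hvB (0 : Fin 7)
  have hgc : (F sevenC).IsCycle := by
    rw [← card_cycleType_eq_one, htype, card_cycleType_eq_one]; exact seven_cycle.1
  have hgs : (F sevenC).support = B := Finset.eq_of_subset_of_card_le (hsupp _)
    (by rw [← sum_cycleType (F sevenC), htype, seven_cycle.1.cycleType, seven_cycle.2]; simp [hB7])
  have hAB : A ∩ B = {v} := by
    ext z
    simp only [hA, Finset.mem_inter, Finset.mem_insert, Finset.mem_sdiff, Finset.mem_singleton]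
    constructor
    · rintro ⟨h | h, hz⟩
      · exact h
      · exact absurd hz h.2
    · rintro rfl
      exact ⟨Or.inl rfl, hvB⟩
  obtain ⟨hcyc, hcs⟩ := isCycle_glue hfcyc hgc (v := v) (by rw [hfsupp, hgs, hAB])
  have hunion : A ∪ B = c.support := by
    ext z
    simp only [hA, Finset.mem_union, Finset.mem_insert, Finset.mem_sdiff]
    constructor
    · rintro ((rfl | h) | h)
      · exact hBc hvB
      · exact h.1
      · exact hBc h
    · intro hz
      by_cases hzB : z ∈ B
      · exact Or.inr hzB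
      · exact Or.inl (Or.inr ⟨hz, hzB⟩)
  rw [hfsupp, hgs, hunion] at hcs
  have hyL : Disjoint y (F fiveL) := by
    intro z
    by_cases hzy : y z = z
    · exact Or.inl hzy
    · refine Or.inr ?_
      by_contra hzF
      have hz' := Finset.mem_inter.2 ⟨hy (mem_support.2 hzy), hsupp _ (mem_support.2 hzF)⟩
      rw [hAB, Finset.mem_singleton] at hz'
      exact hzy (hz' ▸ hyv)
  have hxL : Disjoint x (F fiveL) := by
    intro z
    by_cases hzF : F fiveL z = z
    · exact Or.inr hzF
    · refine Or.inl ?_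
      by_contra hzx
      have hz' := Finset.mem_inter.2 ⟨hx (mem_support.2 hzx), hsupp _ (mem_support.2 hzF)⟩
      rw [hAB, Finset.mem_singleton] at hz'
      exact hzF (hz' ▸ hfix _ fiveL_fix)
  have hyR : Disjoint y (F fiveR) := by
    intro z
    by_cases hzy : y z = z
    · exact Or.inl hzy
    · refine Or.inr ?_
      by_contra hzF
      have hz' := Finset.mem_inter.2 ⟨hy (mem_support.2 hzy), hsupp _ (mem_support.2 hzF)⟩
      rw [hAB, Finset.mem_singleton] at hz'
      exact hzy (hz' ▸ hyv)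
  refine Fac.of_cycleType (σ := f * F sevenC)
    ⟨x * F fiveL, y * F fiveR, ?_, ?_, ?_, ?_, ?_, ?_⟩ (by rw [hcyc.cycleType, hc.cycleType, hcs])
  · rw [mixed_commute hyL, ← hf, ← map_mul, five_prod]
  · rw [hxL.cycleType_mul, hyR.cycleType_mul, tx, ty, htype, htype, five_type.1]
  · rw [hcs, ← hunion]
    exact (support_mul_le _ _).trans (Finset.union_subset_union hx (hsupp _))
  · rw [hcs, ← hunion]
    exact (support_mul_le _ _).trans (Finset.union_subset_union hy (hsupp _))
  · rw [hxL.cycleType_mul, tx, Multiset.count_add, Multiset.count_replicate_self]; omega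
  · rw [map_mul, sign_replicate tx, neg_one_pow_even hev, hsign, five_type.2, one_mul]

theorem fac_two_two {c d : Perm α} (hc : c.IsCycle) (hd : d.IsCycle) (hcd : Disjoint c d)
    (h1 : c.support.card = 2) (h2 : d.support.card = 2) : Fac (c * d) 2 1 := by
  have h4 : (c.support ∪ d.support).card = 4 := by
    rw [← hcd.support_mul, hcd.card_support_mul, h1, h2]
  obtain ⟨v, hv⟩ := Finset.card_pos.1 (show 0 < (c.support ∪ d.support).card by omega)
  obtain ⟨F, hsupp, htype, hsign, -⟩ := exists_transport h4 hv (0 : Fin 4)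
  set t : Perm (Fin 4) := swap 0 1 * swap 2 3
  set x : Perm (Fin 4) := swap 0 2 * swap 1 3
  set y : Perm (Fin 4) := swap 0 3 * swap 1 2
  have ht : t.cycleType = {2, 2} := cycleType_swap_mul_swap_of_nodup (by decide)
  have hx : x.cycleType = {2, 2} := cycleType_swap_mul_swap_of_nodup (by decide)
  have hy : y.cycleType = {2, 2} := cycleType_swap_mul_swap_of_nodup (by decide)
  have hts : (F t).support = c.support ∪ d.support := Finset.eq_of_subset_of_card_le (hsupp _)
    (by rw [← sum_cycleType (F t), htype, ht, h4]; rfl)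
  refine Fac.of_cycleType (σ := F t) ⟨F x, F y, ?_, ?_, hts ▸ hsupp _, hts ▸ hsupp _, ?_, ?_⟩ ?_
  · rw [← map_mul]; exact congrArg F (by decide)
  · rw [htype, htype, hx, hy]
  · rw [htype, hx]; decide
  · rw [hsign]; decide
  · rw [htype, ht, hcd.cycleType_mul, hc.cycleType, hd.cycleType, h1, h2]
    rfl

/-- A pair of even cycles gives at least two transpositions and even sign. -/
theorem fac_pair {c d : Perm α} (hc : c.IsCycle) (hd : d.IsCycle) (hcd : Disjoint c d) {i j : ℕ}
    (hi : c.support.card = 2 * i) (hj : d.support.card = 2 * j) : Fac (c * d) 2 1 := by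
  have hc2 := hc.two_le_card_support
  have hd2 := hd.two_le_card_support
  rcases Nat.lt_or_ge (i + j) 3 with h | h
  · exact fac_two_two hc hd hcd (by omega) (by omega)
  rcases Nat.even_or_odd (i + j - 1) with he | ho
  · have := fac_even_pair hc hd hcd hi hj
    rw [neg_one_pow_even he] at this
    exact this.mono (by omega)
  · obtain ⟨q, hq⟩ := ho
    have := fac_pair_glue hc hd hcd hi hj
    rw [neg_one_pow_even ⟨q, by omega⟩] at this
    exact this.mono (by omega)

theorem exists_cycle_split {σ : Perm α} {m : ℕ} (hm : m ∈ σ.cycleType) :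
    ∃ c τ : Perm α, c.IsCycle ∧ c.support.card = m ∧ Disjoint c τ ∧ σ = c * τ ∧
      τ.cycleType = σ.cycleType.erase m := by
  rw [cycleType_def, Multiset.mem_map] at hm
  obtain ⟨c, hc, rfl⟩ := hm
  have hc' : c ∈ σ.cycleFactorsFinset := hc
  have hcyc := (mem_cycleFactorsFinset_iff.1 hc').1
  have hd : Disjoint c (σ * c⁻¹) := (disjoint_mul_inv_of_mem_cycleFactorsFinset hc').symm
  have heq : σ = c * (σ * c⁻¹) := by rw [hd.commute.eq, inv_mul_cancel_right]
  refine ⟨c, σ * c⁻¹, hcyc, rfl, hd, heq, ?_⟩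
  conv_rhs => rw [heq, hd.cycleType_mul, hcyc.cycleType]
  simp

theorem exists_even_pair {σ : Perm α} (hσ : sign σ = 1) {a : ℕ} (ha : a ∈ σ.cycleType) (hev : Even a) :
    ∃ (c d τ : Perm α) (i j : ℕ), c.IsCycle ∧ d.IsCycle ∧ Disjoint c d ∧ Disjoint (c * d) τ ∧
      σ = c * d * τ ∧ c.support.card = 2 * i ∧ d.support.card = 2 * j ∧ sign τ = 1 ∧
      τ.cycleType.card < σ.cycleType.card := by
  obtain ⟨c, ρ, hc, hca, hcρ, hσeq, hρt⟩ := exists_cycle_split ha
  have hsc : sign c = -1 := by rw [hc.sign, hca, hev.neg_one_pow]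
  have hsρ : sign ρ = -1 := by
    rw [hσeq, map_mul, hsc, neg_one_mul] at hσ
    exact neg_eq_iff_eq_neg.1 hσ
  obtain ⟨b, hb, hbe⟩ : ∃ b ∈ ρ.cycleType, Even b := by
    by_contra h
    push Not at h
    have hall : ρ.cycleType.map (fun n => -(-1 : ℤˣ) ^ n) = ρ.cycleType.map (fun _ => 1) :=
      Multiset.map_congr rfl fun n hn => by rw [(Nat.not_even_iff_odd.1 (h n hn)).neg_one_pow, neg_neg]
    rw [sign_of_cycleType', hall, Multiset.map_const', Multiset.prod_replicate, one_pow] at hsρ
    exact absurd hsρ (by decide)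
  obtain ⟨d, τ, hd, hdb, hdτ, hρeq, hτt⟩ := exists_cycle_split hb
  obtain ⟨i, hi⟩ := hev
  obtain ⟨j, hj⟩ := hbe
  have hρs : ρ.support = d.support ∪ τ.support := by rw [hρeq, hdτ.support_mul]
  have h1 := disjoint_iff_disjoint_support.1 hcρ
  rw [hρs, Finset.disjoint_union_right] at h1
  have hcd : Disjoint c d := disjoint_iff_disjoint_support.2 h1.1
  have hcτ : Disjoint c τ := disjoint_iff_disjoint_support.2 h1.2
  refine ⟨c, d, τ, i, j, hc, hd, hcd, hcτ.mul_left hdτ, by rw [hσeq, hρeq, mul_assoc], by omega, by omega, ?_, ?_⟩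
  · have hsd : sign d = -1 := by rw [hd.sign, hdb, Even.neg_one_pow ⟨j, hj⟩]
    rw [hρeq, map_mul, hsd, neg_one_mul] at hsρ
    exact neg_injective hsρ
  · rw [hτt, Multiset.card_erase_of_mem hb, hρt, Multiset.card_erase_of_mem ha]
    have h2 : 0 < σ.cycleType.card := Multiset.card_pos_iff_exists_mem.2 ⟨a, ha⟩
    simp only [Nat.pred_eq_sub_one]
    omega

theorem odd_orderOf {σ : Perm α} (h : ∀ m ∈ σ.cycleType, Odd m) : Odd (orderOf σ) := by
  rw [← lcm_cycleType]
  revert h
  induction σ.cycleType using Multiset.induction with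
  | empty => intro _; simp
  | cons m M ih =>
    intro h
    rw [Multiset.lcm_cons]
    have h1 := h m (Multiset.mem_cons_self _ _)
    have h2 := ih fun n hn => h n (Multiset.mem_cons_of_mem hn)
    exact Odd.of_dvd_nat (h1.mul h2) (lcm_dvd (Dvd.intro _ rfl) (Dvd.intro_left _ rfl))

theorem fac_even_perm : ∀ (N : ℕ) (σ : Perm α), σ.cycleType.card ≤ N → sign σ = 1 → Fac σ 0 1 := by
  intro N
  induction N with
  | zero =>
    intro σ hN _
    exact fac_sqrt (odd_orderOf fun m hm => absurd (Multiset.card_pos_iff_exists_mem.2 ⟨m, hm⟩) (by omega))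
  | succ N ih =>
    intro σ hN hs
    by_cases h : ∃ a ∈ σ.cycleType, Even a
    · obtain ⟨a, ha, hev⟩ := h
      obtain ⟨c, d, τ, i, j, hc, hd, hcd, hτd, heq, hi, hj, hτs, hlt⟩ := exists_even_pair hs ha hev
      have h1 := (fac_pair hc hd hcd hi hj).mul hτd (ih τ (by omega) hτs)
      rw [one_mul] at h1
      rw [heq]
      exact h1.mono (by omega)
    · push Not at h
      exact fac_sqrt (odd_orderOf fun m hm => Nat.not_even_iff_odd.1 (h m hm))

theorem exists_four (h : 4 ≤ Fintype.card α) (S : Finset α) (hS : S.card + 2 ≤ Fintype.card α) :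
    ∃ p q : α, p ≠ q ∧ p ∉ S ∧ q ∉ S := by
  have h1 : 1 < (Sᶜ : Finset α).card := by rw [Finset.card_compl]; omega
  obtain ⟨p, hp, q, hq, hpq⟩ := Finset.one_lt_card.1 h1
  exact ⟨p, q, hpq, Finset.mem_compl.1 hp, Finset.mem_compl.1 hq⟩

/-- Every even permutation is a product of two permutations of the same cycle type, with sign one and
at least two transpositions. -/
theorem exists_factor (hn : 5 ≤ Fintype.card α) {σ : Perm α} (hσ : sign σ = 1) :
    ∃ x y : Perm α, σ = x * y ∧ x.cycleType = y.cycleType ∧ 2 ≤ x.cycleType.count 2 ∧ sign x = 1 := by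
  have out : Fac σ 2 1 → ∃ x y : Perm α, σ = x * y ∧ x.cycleType = y.cycleType ∧
      2 ≤ x.cycleType.count 2 ∧ sign x = 1 := fun ⟨x, y, h1, h2, _, _, h5, h6⟩ => ⟨x, y, h1, h2, h5, h6⟩
  by_cases h : ∃ a ∈ σ.cycleType, Even a
  · obtain ⟨a, ha, hev⟩ := h
    obtain ⟨c, d, τ, i, j, hc, hd, hcd, hτd, heq, hi, hj, hτs, -⟩ := exists_even_pair hσ ha hev
    have h1 := (fac_pair hc hd hcd hi hj).mul hτd (fac_even_perm _ τ le_rfl hτs)
    rw [one_mul] at h1
    exact out (heq ▸ h1)
  push Not at h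
  have hodd : ∀ m ∈ σ.cycleType, Odd m := fun m hm => Nat.not_even_iff_odd.1 (h m hm)
  by_cases h1 : σ = 1
  · obtain ⟨p, q, hpq, -, -⟩ := exists_four (α := α) (by omega) ∅ (by simp; omega)
    obtain ⟨r, s, hrs, hr, hs⟩ := exists_four (α := α) (by omega) {p, q} (by rw [Finset.card_pair hpq]; omega)
    simp only [Finset.mem_insert, Finset.mem_singleton, not_or] at hr hs
    have ht : (swap p q * swap r s).cycleType = {2, 2} :=
      cycleType_swap_mul_swap_of_nodup (by simp [hpq, hrs, Ne.symm hr.1, Ne.symm hs.1, Ne.symm hr.2, Ne.symm hs.2])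
    refine ⟨swap p q * swap r s, (swap p q * swap r s)⁻¹, by rw [h1, mul_inv_cancel], (cycleType_inv _).symm,
      by rw [ht]; decide, by rw [map_mul, sign_swap hpq, sign_swap hrs]; decide⟩
  obtain ⟨m, hm⟩ : ∃ m, m ∈ σ.cycleType := Multiset.exists_mem_of_ne_zero (by rwa [ne_eq, cycleType_eq_zero])
  have hrest : ∀ {τ : Perm α}, (∀ l ∈ τ.cycleType, l ∈ σ.cycleType) → Fac τ 0 1 := fun hτ =>
    fac_sqrt (odd_orderOf fun l hl => hodd l (hτ l hl))
  by_cases h14 : ∃ m ∈ σ.cycleType, m % 4 = 1
  · obtain ⟨m, hm, hm4⟩ := h14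
    obtain ⟨c, τ, hc, hcm, hcτ, heq, hτt⟩ := exists_cycle_split hm
    have hc2 := hc.two_le_card_support
    have hp := fac_odd_cycle hc (k := m / 2) (by omega)
    rw [neg_one_pow_even ⟨m / 4, by omega⟩] at hp
    have h2 := hp.mul hcτ (hrest fun l hl => Multiset.mem_of_mem_erase (hτt ▸ hl))
    rw [one_mul] at h2
    exact out (heq ▸ h2.mono (by omega))
  push Not at h14
  obtain ⟨c, τ, hc, hcm, hcτ, heq, hτt⟩ := exists_cycle_split hm
  have hc2 := hc.two_le_card_support
  have hm4 : m % 4 = 3 := by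
    have := h14 m hm
    have := Nat.odd_iff.1 (hodd m hm)
    omega
  have hneg : ∀ {l : ℕ}, l % 4 = 3 → (-1 : ℤˣ) ^ (l / 2) = -1 := fun {l} hl =>
    Odd.neg_one_pow ⟨l / 4, by omega⟩
  by_cases hτ1 : τ = 1
  · subst hτ1
    rw [mul_one] at heq
    subst heq
    by_cases hroom : σ.support.card + 2 ≤ Fintype.card α
    · obtain ⟨p, q, hpq, hp, hq⟩ := exists_four (by omega) σ.support hroom
      obtain ⟨x, y, hxy, ht, hsx, hsy, hk, he⟩ := fac_odd_cycle hc (k := m / 2) (by omega)
      have hd : ∀ z : Perm α, z.support ⊆ σ.support → Disjoint z (swap p q) := fun z hz =>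
        disjoint_of_subsets hz (support_swap hpq).le (by
          simp only [Finset.disjoint_insert_right, Finset.disjoint_singleton_right]
          exact ⟨hp, hq⟩)
      refine ⟨x * swap p q, y * swap p q, ?_, ?_, ?_, ?_⟩
      · rw [mixed_commute (hd y hsy), swap_mul_self, mul_one, hxy]
      · rw [(hd x hsx).cycleType_mul, (hd y hsy).cycleType_mul, ht]
      · rw [(hd x hsx).cycleType_mul, Multiset.count_add, (isCycle_swap hpq).cycleType, card_support_swap hpq]
        simp
        omega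
      · rw [map_mul, he, hneg hm4, sign_swap hpq]
        decide
    · rcases Nat.lt_or_ge m 11 with hm11 | hm11
      · exact out (fac_seven hc (by omega))
      · exact out (fac_long hc (k := (m - 7) / 2) (by omega) (by omega) ⟨(m - 7) / 4, by omega⟩)
  · obtain ⟨l, hl⟩ : ∃ l, l ∈ τ.cycleType := Multiset.exists_mem_of_ne_zero (by rwa [ne_eq, cycleType_eq_zero])
    obtain ⟨d, ρ, hd, hdl, hdρ, heq', hρt⟩ := exists_cycle_split hl
    have hd2 := hd.two_le_card_support
    have hlσ : l ∈ σ.cycleType := Multiset.mem_of_mem_erase (hτt ▸ hl)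
    have hl4 : l % 4 = 3 := by
      have := h14 l hlσ
      have := Nat.odd_iff.1 (hodd l hlσ)
      omega
    have h1 := fac_odd_cycle hc (k := m / 2) (by omega)
    have h2 := (fac_odd_cycle hd (k := l / 2) (by omega)).mul hdρ
      (hrest fun r hr => Multiset.mem_of_mem_erase (hτt ▸ Multiset.mem_of_mem_erase (hρt ▸ hr)))
    rw [← heq'] at h2
    have h3 := h1.mul hcτ h2
    rw [hneg hm4, hneg hl4, mul_one, neg_mul_neg, one_mul] at h3
    exact out (heq ▸ h3.mono (by omega))

end CfsgLib.Perm.ConjFactor
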