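import Cfsg.Agent.Lib.Perm.ConjFactor.Assembly
import Cfsg.Agent.Lib.Schur.AlternatingMain

/-!
# The double cover of an alternating group

Lifts of two double transpositions on the same four points never commute in a double cover
(`twisted`), and every element of the double cover is a commutator (`exists_commutator`).
-/

set_option autoImplicit false
set_option linter.style.haveILetI false

namespace CfsgLib.Perm.ConjFactor

open Equiv Equiv.Perm Subgroup CfsgLib.Schur
open scoped commutatorElement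

universe u

variable {n : ℕ}

/-- A central extension of `A_n` with kernel `{1, z}` and `z` a nontrivial product of commutators. -/
structure IsDouble {X : Type u} [Group X] (ξ : X →* alternatingGroup (Fin n)) (z : X) : Prop where
  surj : Function.Surjective ξ
  le_center : ξ.ker ≤ center X
  ne_one : z ≠ 1
  mem_ker : ξ z = 1
  mem_comm : z ∈ commutator X
  mul_self : z * z = 1
  ker_eq : ∀ x, ξ x = 1 → x = 1 ∨ x = z

section

variable {X : Type u} [Group X] {ξ : X →* alternatingGroup (Fin n)} {z : X}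

theorem IsDouble.central (h : IsDouble ξ z) {x : X} (hx : ξ x = 1) (g : X) : g * x = x * g :=
  mem_center_iff.1 (h.le_center hx) g

theorem IsDouble.ker_sq (h : IsDouble ξ z) {x : X} (hx : ξ x = 1) : x * x = 1 := by
  rcases h.ker_eq x hx with rfl | rfl
  · exact one_mul 1
  · exact h.mul_self

theorem IsDouble.exists_mul (h : IsDouble ξ z) {A A' : X} (he : ξ A' = ξ A) :
    ∃ k, ξ k = 1 ∧ A' = A * k :=
  ⟨A⁻¹ * A', by rw [map_mul, map_inv, he, inv_mul_cancel], (mul_inv_cancel_left A A').symm⟩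

theorem IsDouble.commute_congr (h : IsDouble ξ z) {A A' B B' : X} (hA : ξ A' = ξ A) (hB : ξ B' = ξ B)
    (hc : Commute A B) : Commute A' B' := by
  obtain ⟨k, hk, rfl⟩ := h.exists_mul hA
  obtain ⟨l, hl, rfl⟩ := h.exists_mul hB
  have ck : ∀ g, Commute k g := fun g => (h.central hk g).symm
  have cl : ∀ g, Commute g l := fun g => h.central hl g
  exact (hc.mul_right (cl A)).mul_left (ck _)

/-- An element of order three lifts to something commuting with every lift of an element commuting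
with it. -/
theorem IsDouble.commute_of_cube (h : IsDouble ξ z) {K B : X} (h3 : ξ K ^ 3 = 1)
    (hc : ξ K * ξ B = ξ B * ξ K) : Commute K B := by
  set c := K * B * K⁻¹ * B⁻¹ with hcd
  have hck : ξ c = 1 := by
    rw [hcd, map_mul, map_mul, map_mul, map_inv, map_inv, hc]
    group
  have e1 : K * B * K⁻¹ = c * B := by rw [hcd]; group
  have e3 : K ^ 3 * B * (K ^ 3)⁻¹ = c * c * c * B := by
    calc K ^ 3 * B * (K ^ 3)⁻¹ = K * (K * (K * B * K⁻¹) * K⁻¹) * K⁻¹ := by
          simp [pow_succ, mul_assoc]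
      _ = K * (K * (c * B) * K⁻¹) * K⁻¹ := by rw [e1]
      _ = K * (c * (K * B * K⁻¹)) * K⁻¹ := by rw [← mul_assoc K c, h.central hck K]; group
      _ = K * (c * (c * B)) * K⁻¹ := by rw [e1]
      _ = c * c * (K * B * K⁻¹) := by
          rw [← mul_assoc c c B, ← mul_assoc K (c * c),
            h.central (show ξ (c * c) = 1 by rw [map_mul, hck, mul_one]) K]
          group
      _ = c * c * c * B := by rw [e1]; group
  rw [← h.central (show ξ (K ^ 3) = 1 by rw [map_pow, h3]) B, mul_inv_cancel_right,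
    h.ker_sq hck, one_mul] at e3
  have hc1 : c = 1 := mul_eq_right.1 e3.symm
  rw [hc1, one_mul] at e1
  exact mul_inv_eq_iff_eq_mul.1 e1

end

/-- Some pair of double transpositions on the same points has non-commuting lifts. -/
def Spot {X : Type u} [Group X] (ξ : X →* alternatingGroup (Fin n)) : Prop :=
  ∃ a b c d : Fin n, [a, b, c, d].Nodup ∧ ∃ A B : X,
    (ξ A : Perm (Fin n)) = swap a b * swap c d ∧ (ξ B : Perm (Fin n)) = swap a c * swap b d ∧
      ¬ Commute A B

theorem pow_odd_eq {X : Type u} [Group X] {z : X} (h : z * z = 1) : z ^ 15 = z ∧ z ^ 45 = z := by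
  have h2 : z ^ 2 = 1 := by rw [sq, h]
  constructor
  · rw [show 15 = 2 * 7 + 1 from rfl, pow_succ, pow_mul, h2, one_pow, one_mul]
  · rw [show 45 = 2 * 22 + 1 from rfl, pow_succ, pow_mul, h2, one_pow, one_mul]

theorem spot_five {X : Type u} [Group X] [Finite X] (ξ : X →* alternatingGroup (Fin 5)) (z : X)
    (h : IsDouble ξ z) : Spot ξ := by
  let a : alternatingGroup (Fin 5) := ⟨swap 0 1 * swap 2 3, mem_alternatingGroup.2 (by decide +kernel)⟩
  let b : alternatingGroup (Fin 5) := ⟨swap 0 2 * swap 1 3, mem_alternatingGroup.2 (by decide +kernel)⟩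
  obtain ⟨A, hA⟩ := h.surj a
  obtain ⟨B, hB⟩ := h.surj b
  refine ⟨0, 1, 2, 3, by decide, A, B, by rw [hA], by rw [hB], fun hc => ?_⟩
  have hd : ⁅A, B⁆ = 1 := commutatorElement_eq_one_iff_commute.2 hc
  have hi : (closure ({a, b} : Set (alternatingGroup (Fin 5)))).index = 15 :=
    Alternating.closure_index a b 2 2 1 4 15 le_rfl le_rfl (by decide +kernel) (by decide +kernel)
      (by decide +kernel) (by decide +kernel) (by rw [Alternating.card_alt 5 (by norm_num)]; rfl)
      (by norm_num)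
  have hz := Alternating.pow_index_mem_pair ξ h.surj h.le_center hA hB
    (by rw [hd]; simp) (by rw [hd]; simp) (z := z) h.mem_ker h.mem_comm
  rw [hi, (pow_odd_eq h.mul_self).1, hd, zpowers_one_eq_bot, mem_bot] at hz
  exact h.ne_one hz

/-- A four-cycle times a transposition. -/
def quarter : Perm (Fin 6) := ⟨![2, 3, 1, 0, 5, 4], ![3, 2, 0, 1, 5, 4], by decide, by decide⟩

theorem spot_six {X : Type u} [Group X] [Finite X] (ξ : X →* alternatingGroup (Fin 6)) (z : X)
    (h : IsDouble ξ z) : Spot ξ := by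
  let a : alternatingGroup (Fin 6) := ⟨quarter, mem_alternatingGroup.2 (by decide +kernel)⟩
  let b : alternatingGroup (Fin 6) := ⟨swap 0 1 * swap 4 5, mem_alternatingGroup.2 (by decide +kernel)⟩
  let g₁ : alternatingGroup (Fin 6) := ⟨swap 1 2 * swap 4 5, mem_alternatingGroup.2 (by decide +kernel)⟩
  let g₂ : alternatingGroup (Fin 6) := ⟨swap 1 3 * swap 4 5, mem_alternatingGroup.2 (by decide +kernel)⟩
  obtain ⟨A, hA⟩ := h.surj a
  obtain ⟨B, hB⟩ := h.surj b
  obtain ⟨G₁, hG₁⟩ := h.surj g₁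
  obtain ⟨G₂, hG₂⟩ := h.surj g₂
  have hba : b * a * b⁻¹ = a⁻¹ := by decide +kernel
  have hck : ξ (A * (B * A * B⁻¹)) = 1 := by
    rw [map_mul, map_mul, map_mul, map_inv, hA, hB, hba, mul_inv_cancel]
  set c := A * (B * A * B⁻¹) with hcd
  have hc := h.central hck
  have hci : ξ c⁻¹ = 1 := by rw [map_inv, hck, inv_one]
  have hBA : B * A * B⁻¹ = A⁻¹ * c := by simp [hcd]
  set d := ⁅A, B⁆ with hd
  have hdA : d = A ^ 2 * c⁻¹ := by
    calc d = A * (B * A * B⁻¹)⁻¹ := by simp [hd, commutatorElement_def, mul_assoc]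
      _ = A * (c⁻¹ * A) := by rw [hBA]; group
      _ = A * (A * c⁻¹) := by rw [h.central hci A]
      _ = A ^ 2 * c⁻¹ := by rw [← mul_assoc, sq]
  have hAd : A * d * A⁻¹ = d := by
    rw [hdA]
    calc A * (A ^ 2 * c⁻¹) * A⁻¹ = A ^ 3 * (c⁻¹ * A⁻¹) := by group
      _ = A ^ 3 * (A⁻¹ * c⁻¹) := by rw [← h.central hci A⁻¹]
      _ = A ^ 2 * c⁻¹ := by group
  have hBd : B * d * B⁻¹ = d⁻¹ := by
    have h1 : B * c⁻¹ * B⁻¹ = c⁻¹ := by rw [h.central hci B, mul_inv_cancel_right]
    calc B * d * B⁻¹ = (B * A * B⁻¹) * (B * A * B⁻¹) * (B * c⁻¹ * B⁻¹) := by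
          rw [hdA, sq]; simp [mul_assoc]
      _ = A⁻¹ * (c * A⁻¹) * (c * c⁻¹) := by rw [hBA, h1]; group
      _ = A⁻¹ * (A⁻¹ * c) * (c * c⁻¹) := by rw [← hc A⁻¹]
      _ = c * A⁻¹ * A⁻¹ := by rw [mul_inv_cancel, mul_one, ← mul_assoc, hc (A⁻¹ * A⁻¹)]; group
      _ = d⁻¹ := by rw [hdA]; group
  have hξd : ξ d = a ^ 2 := by rw [hdA, map_mul, map_pow, hA, hci, mul_one]
  have hi : (closure ({a, b} : Set (alternatingGroup (Fin 6)))).index = 45 :=
    Alternating.closure_index a b 4 2 3 8 45 (by norm_num) le_rfl (by decide +kernel) (by decide +kernel)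
      (by decide +kernel) (by decide +kernel) (by rw [Alternating.card_alt 6 (by norm_num)]; rfl)
      (by norm_num)
  have hz := Alternating.pow_index_mem_pair ξ h.surj h.le_center hA hB
    (by rw [← hd, hAd]; exact mem_zpowers _) (by rw [← hd, hBd]; exact inv_mem (mem_zpowers _))
    (z := z) h.mem_ker h.mem_comm
  rw [hi, (pow_odd_eq h.mul_self).2, ← hd] at hz
  have hsq : d * d = z := by
    refine (h.ker_eq _ ?_).resolve_left fun h1 => ?_
    · rw [map_mul, hξd]; decide +kernel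
    · obtain ⟨i, hi'⟩ := mem_zpowers_iff.1 hz
      have h2 : d ^ (2 : ℤ) = 1 := by rw [zpow_ofNat, sq, h1]
      rcases Int.even_or_odd i with ⟨j, rfl⟩ | ⟨j, rfl⟩
      · rw [← two_mul, zpow_mul, h2, one_zpow] at hi'
        exact h.ne_one hi'.symm
      · rw [zpow_add, zpow_mul, h2, one_zpow, one_mul, zpow_one] at hi'
        have h3 := h.mem_ker
        rw [← hi', hξd] at h3
        exact absurd h3 (by decide +kernel)
  have hconj : ∀ K W : X, ξ W = ξ K * a ^ 2 * (ξ K)⁻¹ → W * W = z := by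
    intro K W hW
    obtain ⟨k, hk, rfl⟩ := h.exists_mul (A := K * d * K⁻¹) (A' := W)
      (by rw [hW, map_mul, map_mul, map_inv, hξd])
    calc K * d * K⁻¹ * k * (K * d * K⁻¹ * k) = K * d * K⁻¹ * (k * (K * d * K⁻¹)) * k := by group
      _ = K * d * K⁻¹ * ((K * d * K⁻¹) * k) * k := by rw [h.central hk (K * d * K⁻¹)]
      _ = K * (d * d) * K⁻¹ * (k * k) := by group
      _ = z := by rw [hsq, h.central h.mem_ker K, mul_inv_cancel_right, h.ker_sq hk, mul_one]
  refine ⟨0, 1, 2, 3, by decide, d, G₁ * d * G₁⁻¹, ?_, ?_, fun hcm => ?_⟩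
  · rw [hξd]; decide +kernel
  · rw [map_mul, map_mul, map_inv, hG₁, hξd]; decide +kernel
  · have e1 : G₁ * d * G₁⁻¹ * (G₁ * d * G₁⁻¹) = z :=
      hconj G₁ _ (by rw [map_mul, map_mul, map_inv, hξd])
    have e2 := hconj G₂ (d * (G₁ * d * G₁⁻¹)) (by
      rw [map_mul, map_mul, map_mul, map_inv, hG₁, hG₂, hξd]; decide +kernel)
    rw [hcm.symm.mul_mul_mul_comm, e1, hsq, h.mul_self] at e2
    exact h.ne_one e2.symm

theorem spot_step {m : ℕ} (hm : 7 ≤ m + 1)
    (IH : ∀ {Y : Type u} [Group Y] [Finite Y] (η : Y →* alternatingGroup (Fin m)) (w : Y),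
      IsDouble η w → Spot η)
    {X : Type u} [Group X] [Finite X] (ξ : X →* alternatingGroup (Fin (m + 1))) (z : X)
    (h : IsDouble ξ z) : Spot ξ := by
  set a₀ : Fin (m + 1) := Fin.last m
  set s : Finset (Fin (m + 1)) := Finset.univ.erase a₀ with hs'
  have hcard : s.card = m := by
    rw [hs', Finset.card_erase_of_mem (Finset.mem_univ _), Finset.card_univ, Fintype.card_fin]
    omega
  let e₀ : Fin m ≃ s := Fintype.equivOfCardEq (by simp [hcard])
  let e : alternatingGroup (Fin m) ≃* alternatingGroup s := Equiv.altCongrHom e₀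
  let f : Alternating.altOn s ≃* alternatingGroup (Fin m) :=
    (MonoidHom.ofInjective (alternatingGroup.ofSubtype_injective (s := s))).symm.trans e.symm
  let g : (Alternating.altOn s).comap ξ →* Alternating.altOn s :=
    (ξ.comp ((Alternating.altOn s).comap ξ).subtype).codRestrict (Alternating.altOn s) fun x => x.2
  let η := f.toMonoidHom.comp g
  have hzY : z ∈ (Alternating.altOn s).comap ξ := by rw [mem_comap, h.mem_ker]; exact one_mem _
  have hker : ∀ y, η y = 1 ↔ ξ (y : X) = 1 := fun y =>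
    ⟨fun hy => congrArg Subtype.val (show g y = 1 from f.injective (hy.trans (map_one f).symm)),
      fun hy => by
        show f (g y) = 1
        rw [show g y = 1 from Subtype.ext hy, map_one]⟩
  have hd : IsDouble η ⟨z, hzY⟩ := by
    refine ⟨?_, fun y hy => ?_, fun h1 => h.ne_one (congrArg Subtype.val h1), (hker _).2 h.mem_ker, ?_,
      Subtype.ext h.mul_self, fun y hy => ?_⟩
    · refine f.surjective.comp fun y => ?_
      obtain ⟨x, hx⟩ := h.surj y
      exact ⟨⟨x, by rw [mem_comap, hx]; exact y.2⟩, Subtype.ext hx⟩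
    · exact mem_center_iff.2 fun w => Subtype.ext (h.central ((hker y).1 hy) w)
    · have h1 := Alternating.le_lifts ξ hm h.surj h.le_center a₀ ⟨h.mem_ker, h.mem_comm⟩
      rw [Alternating.lifts, ← map_subtype_commutator] at h1
      obtain ⟨y, hy, hyz⟩ := h1
      have hyz' : y = (⟨z, hzY⟩ : (Alternating.altOn s).comap ξ) := Subtype.ext hyz
      exact hyz' ▸ hy
    · exact (h.ker_eq _ ((hker y).1 hy)).imp (fun h1 => Subtype.ext h1) (fun h1 => Subtype.ext h1)
  let ι : Fin m → Fin (m + 1) := fun i => (e₀ i : Fin (m + 1))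
  have hι : Function.Injective ι := Subtype.val_injective.comp e₀.injective
  have himg : ∀ (y : (Alternating.altOn s).comap ξ) (i : Fin m),
      (ξ (y : X) : Perm (Fin (m + 1))) (ι i) = ι ((η y : Perm (Fin m)) i) := by
    intro y i
    have e1 : f.symm (η y) = g y := f.symm_apply_apply (g y)
    have e2 : (ξ (y : X) : Perm (Fin (m + 1))) =
        Perm.ofSubtype (e₀.permCongr (η y : Perm (Fin m))) := by
      calc (ξ (y : X) : Perm (Fin (m + 1))) = ((f.symm (η y) : alternatingGroup (Fin (m + 1))) : Perm (Fin (m + 1))) := by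
            rw [e1]; rfl
        _ = _ := rfl
    rw [e2]
    show Perm.ofSubtype (e₀.permCongr (η y : Perm (Fin m))) (e₀ i : Fin (m + 1)) = _
    rw [Perm.ofSubtype_apply_coe, Equiv.permCongr_apply, e₀.symm_apply_apply]
  have hext : ∀ (y : (Alternating.altOn s).comap ξ) (a b c d : Fin m),
      (η y : Perm (Fin m)) = swap a b * swap c d →
      (ξ (y : X) : Perm (Fin (m + 1))) = swap (ι a) (ι b) * swap (ι c) (ι d) := by
    intro y a b c d hy
    refine Equiv.ext fun x => ?_
    by_cases hx : x ∈ s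
    · obtain ⟨i, rfl⟩ : ∃ i, ι i = x := ⟨e₀.symm ⟨x, hx⟩, by simp [ι]⟩
      rw [himg, hy, Perm.mul_apply, Perm.mul_apply, hι.swap_apply, hι.swap_apply]
    · have hne : ∀ i, x ≠ ι i := fun i hi => hx (hi ▸ (e₀ i).2)
      rw [Alternating.mem_altOn.1 y.2 x hx, Perm.mul_apply,
        swap_apply_of_ne_of_ne (hne c) (hne d), swap_apply_of_ne_of_ne (hne a) (hne b)]
  obtain ⟨a, b, c, d, hnd, A, B, hA, hB, hAB⟩ := IH η _ hd
  refine ⟨ι a, ι b, ι c, ι d, ?_, A, B, hext A a b c d hA, hext B a c b d hB,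
    fun hc => hAB (Subtype.ext hc)⟩
  exact (show [ι a, ι b, ι c, ι d] = [a, b, c, d].map ι from rfl) ▸ hnd.map hι

theorem spot (hn : 5 ≤ n) : ∀ {X : Type u} [Group X] [Finite X] (ξ : X →* alternatingGroup (Fin n))
    (z : X), IsDouble ξ z → Spot ξ := by
  induction n, hn using Nat.le_induction with
  | base => exact spot_five
  | succ m hm ih =>
    rcases hm.eq_or_lt with rfl | hlt
    · exact spot_six
    · exact spot_step (by omega) ih

/-- In a double cover, lifts of double transpositions on the same four points never commute. -/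
theorem twisted (hn : 5 ≤ n) {X : Type u} [Group X] [Finite X] {ξ : X →* alternatingGroup (Fin n)}
    {z : X} (h : IsDouble ξ z) {a b c d : Fin n} (hnd : [a, b, c, d].Nodup) {A B : X}
    (hA : (ξ A : Perm (Fin n)) = swap a b * swap c d)
    (hB : (ξ B : Perm (Fin n)) = swap a c * swap b d) : ¬ Commute A B := by
  intro hc
  obtain ⟨a', b', c', d', hnd', A', B', hA', hB', hAB'⟩ := spot hn ξ z h
  have inj : ∀ {p q r s : Fin n}, [p, q, r, s].Nodup → Function.Injective ![p, q, r, s] := by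
    intro p q r s hp i j hij
    simp only [List.nodup_cons, List.mem_cons, List.not_mem_nil, or_false, not_or, List.nodup_nil,
      and_true] at hp
    fin_cases i <;> fin_cases j <;> simp_all
  obtain ⟨σ, hσ⟩ := Equiv.Perm.exists_extending_pair ![a', b', c', d'] ![a, b, c, d] (inj hnd') (inj hnd)
  have ha : σ a' = a := hσ 0
  have hb : σ b' = b := hσ 1
  have hcc : σ c' = c := hσ 2
  have hd : σ d' = d := hσ 3
  simp only [List.nodup_cons, List.mem_cons, List.not_mem_nil, or_false, not_or, List.nodup_nil,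
    and_true, not_false_eq_true] at hnd'
  have hsw : ∀ (τ : Perm (Fin n)) (p q r s : Fin n),
      τ * (swap p q * swap r s) * τ⁻¹ = swap (τ p) (τ q) * swap (τ r) (τ s) := fun τ p q r s => by
    rw [Equiv.swap_apply_apply, Equiv.swap_apply_apply]; group
  rcases Int.units_eq_one_or (sign σ) with hs | hs
  · obtain ⟨G, hG⟩ := h.surj ⟨σ, hs⟩
    have e1 : ξ (G * A' * G⁻¹) = ξ A := Subtype.ext <| by
      simp only [map_mul, map_inv, Subgroup.coe_mul, Subgroup.coe_inv, hG, hA', hA, hsw, ha, hb, hcc, hd]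
    have e2 : ξ (G * B' * G⁻¹) = ξ B := Subtype.ext <| by
      simp only [map_mul, map_inv, Subgroup.coe_mul, Subgroup.coe_inv, hG, hB', hB, hsw, ha, hb, hcc, hd]
    exact hAB' ((Commute.conj_iff G).1 (h.commute_congr e1 e2 hc))
  · have hev : σ * swap b' c' ∈ alternatingGroup (Fin n) := by
      rw [mem_alternatingGroup, map_mul, hs, sign_swap hnd'.2.1.1]
      rfl
    obtain ⟨G, hG⟩ := h.surj ⟨_, hev⟩
    have ta : (σ * swap b' c') a' = a := by
      rw [Perm.mul_apply, swap_apply_of_ne_of_ne hnd'.1.1 hnd'.1.2.1, ha]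
    have tb : (σ * swap b' c') b' = c := by rw [Perm.mul_apply, swap_apply_left, hcc]
    have tc : (σ * swap b' c') c' = b := by rw [Perm.mul_apply, swap_apply_right, hb]
    have td : (σ * swap b' c') d' = d := by
      rw [Perm.mul_apply, swap_apply_of_ne_of_ne (Ne.symm hnd'.2.1.2) (Ne.symm hnd'.2.2), hd]
    have e1 : ξ (G * B' * G⁻¹) = ξ A := Subtype.ext <| by
      simp only [map_mul, map_inv, Subgroup.coe_mul, Subgroup.coe_inv, hG, hB', hA, hsw, ta, tb, tc, td]
    have e2 : ξ (G * A' * G⁻¹) = ξ B := Subtype.ext <| by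
      simp only [map_mul, map_inv, Subgroup.coe_mul, Subgroup.coe_inv, hG, hA', hB, hsw, ta, tb, tc, td]
    exact hAB' ((Commute.conj_iff G).1 (h.commute_congr e1 e2 hc).symm)

theorem exists_swap_split {σ : Perm (Fin n)} (h : 2 ∈ σ.cycleType) :
    ∃ (p q : Fin n) (τ : Perm (Fin n)), p ≠ q ∧ σ = swap p q * τ ∧ Disjoint (swap p q) τ ∧
      τ.cycleType = σ.cycleType.erase 2 := by
  obtain ⟨c, τ, -, hc2, hd, heq, ht⟩ := exists_cycle_split h
  obtain ⟨p, q, hpq, rfl⟩ := card_support_eq_two.1 hc2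
  exact ⟨p, q, τ, hpq, heq, hd, ht⟩

/-- Every element of a double cover of `A_n` is a commutator. -/
theorem exists_commutator (hn : 5 ≤ n) {X : Type u} [Group X] [Finite X]
    {ξ : X →* alternatingGroup (Fin n)} {z : X} (h : IsDouble ξ z) (g : X) :
    ∃ A B : X, A * B * A⁻¹ * B⁻¹ = g := by
  obtain ⟨x, y, hxy, htype, hcount, hsign⟩ :=
    exists_factor (α := Fin n) (by simpa using hn) (σ := (ξ g : Perm (Fin n))) (ξ g).2
  obtain ⟨p, q, τ, hpq, hxτ, hd1, hτt⟩ := exists_swap_split (Multiset.count_pos.1 (by omega : 0 < x.cycleType.count 2))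
  obtain ⟨r, s, x', hrs, hτx, hd2, -⟩ := exists_swap_split (σ := τ)
    (Multiset.count_pos.1 (by rw [hτt, Multiset.count_erase_self]; omega))
  have hsupp := disjoint_iff_disjoint_support.1 hd1
  rw [hτx, hd2.support_mul, support_swap hpq, support_swap hrs] at hsupp
  have hsupp2 := disjoint_iff_disjoint_support.1 hd2
  rw [support_swap hrs] at hsupp2
  simp only [Finset.disjoint_insert_left, Finset.disjoint_singleton_left, Finset.mem_union,
    Finset.mem_insert, Finset.mem_singleton, not_or] at hsupp hsupp2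
  obtain ⟨⟨⟨hpr, hps⟩, hpx⟩, ⟨hqr, hqs⟩, hqx⟩ := hsupp
  obtain ⟨hrx, hsx⟩ := hsupp2
  have hnd : [p, q, r, s].Nodup := by simp [hpq, hrs, hpr, hps, hqr, hqs]
  rw [notMem_support] at hpx hqx hrx hsx
  have hx' : sign x' = 1 := by
    simpa [hxτ, hτx, sign_swap hpq, sign_swap hrs] using hsign
  -- the conjugating element
  obtain ⟨a, ha, haxy⟩ : ∃ a : Perm (Fin n), sign a = 1 ∧ a * x⁻¹ * a⁻¹ = y := by
    obtain ⟨a, ha⟩ := isConj_iff.1 ((isConj_iff_cycleType_eq (σ := x⁻¹) (τ := y)).2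
      (by rw [cycleType_inv, htype]))
    rcases Int.units_eq_one_or (sign a) with hs | hs
    · exact ⟨a, hs, ha⟩
    · refine ⟨a * swap p q, by rw [map_mul, hs, sign_swap hpq]; decide, ?_⟩
      have hc : Commute (swap p q) x⁻¹ :=
        (hxτ ▸ (Commute.refl (swap p q)).mul_right hd1.commute).inv_right
      calc a * swap p q * x⁻¹ * (a * swap p q)⁻¹ = a * (swap p q * x⁻¹) * (swap p q)⁻¹ * a⁻¹ := by group
        _ = a * (x⁻¹ * swap p q) * (swap p q)⁻¹ * a⁻¹ := by rw [hc.eq]
        _ = a * x⁻¹ * a⁻¹ := by group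
        _ = y := ha
  obtain ⟨T, hT⟩ := h.surj ⟨swap p q * swap r s, by
    rw [mem_alternatingGroup, map_mul, sign_swap hpq, sign_swap hrs]; rfl⟩
  obtain ⟨X', hX'⟩ := h.surj ⟨x', hx'⟩
  obtain ⟨A, hA⟩ := h.surj ⟨a, ha⟩
  set P := T * X' with hP
  have hPx : (ξ P : Perm (Fin n)) = x := by
    rw [hP, map_mul, Subgroup.coe_mul, hT, hX', hxτ, hτx, mul_assoc]
  have hcomm : ξ (P * A * P⁻¹ * A⁻¹) = ξ g := Subtype.ext <| by
    simp only [map_mul, map_inv, Subgroup.coe_mul, Subgroup.coe_inv, hPx, hA]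
    rw [hxy, ← haxy]
    group
  obtain ⟨k, hk, hgk⟩ := h.exists_mul hcomm.symm
  rcases h.ker_eq k hk with rfl | rfl
  · exact ⟨P, A, by rw [hgk, mul_one]⟩
  -- an element moving `P` to the other lift
  obtain ⟨K₁, hK₁⟩ := h.surj ⟨swap p r * swap r q, by
    rw [mem_alternatingGroup, map_mul, sign_swap hpr, sign_swap (Ne.symm hqr)]; rfl⟩
  obtain ⟨K₂, hK₂⟩ := h.surj ⟨swap r q * swap q s, by
    rw [mem_alternatingGroup, map_mul, sign_swap (Ne.symm hqr), sign_swap hqs]; rfl⟩
  have hfix : ∀ v w : Fin n, x' v = v → x' w = w → Commute x' (swap v w) := fun v w hv hw =>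
    ((mul_swap_eq_swap_mul x' v w).trans (by rw [hv, hw]))
  have hK₁X : Commute K₁ X' := h.commute_of_cube (Subtype.ext <| by
      rw [SubgroupClass.coe_pow, hK₁, OneMemClass.coe_one]
      show (swap p r * swap r q) ^ 3 = 1
      rw [swap_comm p r,
        ← (isThreeCycle_swap_mul_swap_same (Ne.symm hpr) (Ne.symm hqr) hpq).orderOf]
      exact pow_orderOf_eq_one _) (Subtype.ext <| by
      rw [Subgroup.coe_mul, Subgroup.coe_mul, hK₁, hX']
      exact ((hfix p r hpx hrx).mul_right (hfix r q hrx hqx)).symm.eq)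
  have hK₂X : Commute K₂ X' := h.commute_of_cube (Subtype.ext <| by
      rw [SubgroupClass.coe_pow, hK₂, OneMemClass.coe_one]
      show (swap r q * swap q s) ^ 3 = 1
      rw [swap_comm r q,
        ← (isThreeCycle_swap_mul_swap_same hqr hqs hrs).orderOf]
      exact pow_orderOf_eq_one _) (Subtype.ext <| by
      rw [Subgroup.coe_mul, Subgroup.coe_mul, hK₂, hX']
      exact ((hfix r q hrx hqx).mul_right (hfix q s hqx hsx)).symm.eq)
  set H := K₁ * K₂ with hH
  have hHh : (ξ H : Perm (Fin n)) = swap p r * swap q s := by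
    rw [hH, map_mul, Subgroup.coe_mul, hK₁, hK₂]
    simp [mul_assoc]
  have hHT : H * T * H⁻¹ * T⁻¹ = k := by
    refine (h.ker_eq _ (Subtype.ext ?_)).resolve_left fun h1 => ?_
    · simp only [map_mul, map_inv, Subgroup.coe_mul, Subgroup.coe_inv, hHh, hT, OneMemClass.coe_one]
      rw [mul_inv_eq_one, mul_inv_eq_iff_eq_mul]
      refine Equiv.ext fun v => ?_
      simp only [Perm.mul_apply, swap_apply_def]
      grind
    · exact twisted hn h hnd (A := T) (B := H) (by rw [hT]) hHh
        ((mul_inv_eq_iff_eq_mul.1 (mul_inv_eq_one.1 h1)).symm)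
  have hHP : H * P = k * P * H := by
    calc H * P = (H * T * H⁻¹ * T⁻¹) * T * (H * X') := by rw [hP]; group
      _ = k * T * (X' * H) := by rw [hHT, ((hK₁X.mul_left hK₂X) : Commute H X').eq]
      _ = k * P * H := by rw [hP]; group
  refine ⟨P, A * H, ?_⟩
  have hki : k⁻¹ = k := inv_eq_of_mul_eq_one_right h.mul_self
  have hHPi : H * P⁻¹ * H⁻¹ = P⁻¹ * k := by
    calc H * P⁻¹ * H⁻¹ = (H * P * H⁻¹)⁻¹ := by group
      _ = P⁻¹ * k := by rw [hHP, mul_inv_cancel_right, mul_inv_rev, hki]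
  calc P * (A * H) * P⁻¹ * (A * H)⁻¹ = P * A * (H * P⁻¹ * H⁻¹) * A⁻¹ := by group
    _ = P * A * P⁻¹ * (k * A⁻¹) := by rw [hHPi]; group
    _ = P * A * P⁻¹ * (A⁻¹ * k) := by rw [← h.central h.mem_ker A⁻¹]
    _ = g := by rw [hgk]; group

end CfsgLib.Perm.ConjFactor
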