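import Cfsg.Agent.Lib.Perm.ConjFactor.Pieces

/-!
# Every even permutation is a product of two conjugates with two transpositions

`exists_factor`: for even `σ` on at least five points there are `x, y` of the same cycle type with
`σ = x * y`, `x` even and having at least two transpositions among its cycles.
-/

set_option autoImplicit false
set_option linter.style.haveILetI false

namespace CfsgLib.Perm.ConjFactor

open Equiv Equiv.Perm

variable {α : Type*} [Fintype α] [DecidableEq α]

theorem neg_one_pow_even {k : ℕ} (h : Even k) : (-1 : ℤˣ) ^ k = 1 := h.neg_one_pow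

theorem disjoint_of_subsets {f g : Perm α} {S T : Finset α} (hf : f.support ⊆ S) (hg : g.support ⊆ T)
    (h : _root_.Disjoint S T) : Disjoint f g :=
  disjoint_iff_disjoint_support.2 (h.mono hf hg)

theorem piece_of_refl {c x y : Perm α} (hxy : c = x * y) (hx : x ^ 2 = 1) (hy : y ^ 2 = 1)
    (hsx : x.support ⊆ c.support) (hsy : y.support ⊆ c.support) {k : ℕ}
    (h1 : x.support.card = 2 * k) (h2 : y.support.card = 2 * k) : Fac c k ((-1 : ℤˣ) ^ k) := by
  have e1 : x.cycleType = Multiset.replicate k 2 := by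
    rw [cycleType_involution hx, h1, Nat.mul_div_cancel_left _ two_pos]
  have e2 : y.cycleType = Multiset.replicate k 2 := by
    rw [cycleType_involution hy, h2, Nat.mul_div_cancel_left _ two_pos]
  refine ⟨x, y, hxy, e1.trans e2.symm, hsx, hsy, by rw [e1, Multiset.count_replicate_self], sign_replicate e1⟩

theorem fac_odd_cycle {c : Perm α} (hc : c.IsCycle) {k : ℕ} (hm : c.support.card = 2 * k + 1) :
    Fac c k ((-1 : ℤˣ) ^ k) := by
  have h2 := hc.two_le_card_support
  haveI : NeZero c.support.card := ⟨by omega⟩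
  obtain ⟨v, hv⟩ := Finset.card_pos.1 (show 0 < c.support.card by omega)
  have ho : Odd c.support.card := ⟨k, hm⟩
  obtain ⟨c', x, y, hc', hs, hxy, hx, hy, hsx, hsy, -, hcx, hcy⟩ :=
    exists_refl_pieces hv rfl h2 0 0 (add_zero _)
  rw [refl_card_odd ho, hm, Nat.add_sub_cancel] at hcx hcy
  refine Fac.of_cycleType (σ := c') (piece_of_refl hxy hx hy (hs.symm ▸ hsx) (hs.symm ▸ hsy) hcx hcy) ?_
  rw [hc'.cycleType, hc.cycleType, hs]

theorem mixed_commute {x y x' y' : Perm α} (h : Disjoint y x') : (x * x') * (y * y') = (x * y) * (x' * y') := by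
  rw [mul_assoc x x', ← mul_assoc x' y, ← h.commute.eq, mul_assoc y, ← mul_assoc x y]

/-- Two even cycles, first mode: reflections. -/
theorem fac_even_pair {c d : Perm α} (hc : c.IsCycle) (hd : d.IsCycle) (hcd : Disjoint c d) {i j : ℕ}
    (hi : c.support.card = 2 * i) (hj : d.support.card = 2 * j) :
    Fac (c * d) (i + j - 1) ((-1 : ℤˣ) ^ (i + j - 1)) := by
  have hc2 := hc.two_le_card_support
  have hd2 := hd.two_le_card_support
  haveI : NeZero c.support.card := ⟨by omega⟩
  haveI : NeZero d.support.card := ⟨by omega⟩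
  obtain ⟨v, hv⟩ := Finset.card_pos.1 (show 0 < c.support.card by omega)
  obtain ⟨w, hw⟩ := Finset.card_pos.1 (show 0 < d.support.card by omega)
  have hec : Even c.support.card := ⟨i, by omega⟩
  have hed : Even d.support.card := ⟨j, by omega⟩
  obtain ⟨c', x, y, hc', hs, hxy, hx, hy, hsx, hsy, -, hcx, hcy⟩ :=
    exists_refl_pieces hv rfl hc2 0 0 (add_zero _)
  rw [zero_add, refl_card_even_odd hec] at hcx
  rw [← add_zero (0 : ZMod c.support.card), refl_card_even_zero hec] at hcy
  obtain ⟨d', x', y', hd', hs', hxy', hx', hy', hsx', hsy', -, hcx', hcy'⟩ :=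
    exists_refl_pieces hw rfl hd2 0 0 (add_zero _)
  rw [zero_add, refl_card_even_odd hed] at hcx'
  rw [← add_zero (0 : ZMod d.support.card), refl_card_even_zero hed] at hcy'
  have hdd := disjoint_iff_disjoint_support.1 hcd
  -- reverse the second cycle
  have hdi : d'⁻¹ = y' * x' := by
    have e1 : x'⁻¹ = x' := inv_eq_of_mul_eq_one_right (by rw [← sq, hx'])
    have e2 : y'⁻¹ = y' := inv_eq_of_mul_eq_one_right (by rw [← sq, hy'])
    rw [hxy', mul_inv_rev, e1, e2]
  have dxy : Disjoint x y' := disjoint_of_subsets hsx hsy' hdd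
  have dyx : Disjoint y x' := disjoint_of_subsets hsy hsx' hdd
  have dyy : Disjoint y y' := disjoint_of_subsets hsy hsy' hdd
  have dcd : Disjoint c' d'⁻¹ := by
    refine disjoint_of_subsets hs.le ?_ hdd
    rw [support_inv]
    exact hs'.le
  have hsupp : (c' * d'⁻¹).support = c.support ∪ d.support := by rw [dcd.support_mul, support_inv, hs, hs']
  refine Fac.of_cycleType (σ := c' * d'⁻¹) (piece_of_refl (x := x * y') (y := y * x') ?_ ?_ ?_ ?_ ?_ ?_ ?_) ?_
  · rw [mixed_commute dyy, ← hxy, hdi]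
  · rw [dxy.commute.mul_pow, hx, hy', one_mul]
  · rw [dyx.commute.mul_pow, hy, hx', one_mul]
  · rw [dxy.support_mul, hsupp]; exact Finset.union_subset_union hsx hsy'
  · rw [dyx.support_mul, hsupp]; exact Finset.union_subset_union hsy hsx'
  · rw [dxy.card_support_mul, hcx, hcy']; omega
  · rw [dyx.card_support_mul, hcy, hcx']; omega
  · rw [dcd.cycleType_mul, cycleType_inv, hcd.cycleType_mul, hc.cycleType, hd.cycleType, hc'.cycleType,
      hd'.cycleType, hs, hs']

/-- An odd piece on a set, fixing a prescribed point with its right factor. -/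
theorem exists_odd_piece (S : Finset α) {r : α} (hr : r ∈ S) {k : ℕ} (hk : S.card = 2 * k + 1) :
    ∃ c x y : Perm α, c = x * y ∧ x.support ⊆ S ∧ y.support ⊆ S ∧ c.support ⊆ S ∧ y r = r ∧
      x.cycleType = Multiset.replicate k 2 ∧ y.cycleType = Multiset.replicate k 2 ∧
      ((k = 0 ∧ c = 1) ∨ (c.IsCycle ∧ c.support = S)) := by
  rcases Nat.eq_zero_or_pos k with rfl | hk0
  · exact ⟨1, 1, 1, (one_mul 1).symm, by simp, by simp, by simp, rfl, by simp, by simp, Or.inl ⟨rfl, rfl⟩⟩
  · haveI : NeZero S.card := ⟨by omega⟩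
    obtain ⟨c, x, y, hc, hs, hxy, hx, hy, hsx, hsy, hyr, hcx, hcy⟩ :=
      exists_refl_pieces hr rfl (by omega) 0 0 (add_zero _)
    rw [refl_card_odd ⟨k, hk⟩, hk, Nat.add_sub_cancel] at hcx hcy
    refine ⟨c, x, y, hxy, hsx, hsy, hs.le, hyr, ?_, ?_, Or.inr ⟨hc, hs⟩⟩
    · rw [cycleType_involution hx, hcx, Nat.mul_div_cancel_left _ two_pos]
    · rw [cycleType_involution hy, hcy, Nat.mul_div_cancel_left _ two_pos]

theorem glue_swap {c : Perm α} {S : Finset α} {u r : α} (hur : u ≠ r) (hr : r ∈ S) (hu : u ∉ S) {k : ℕ}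
    (hk : S.card = 2 * k + 1) (hcS : c.support ⊆ S) (hc : (k = 0 ∧ c = 1) ∨ (c.IsCycle ∧ c.support = S)) :
    ((c * swap u r).IsCycle ∧ (c * swap u r).support = insert u S) ∧
      ((swap u r * c).IsCycle ∧ (swap u r * c).support = insert u S) := by
  rcases hc with ⟨rfl, rfl⟩ | ⟨hcyc, hs⟩
  · have hS : S = {r} := by
      obtain ⟨z, hz⟩ := Finset.card_eq_one.1 (show S.card = 1 by omega)
      rw [hz, Finset.mem_singleton] at hr
      rw [hz, hr]
    rw [one_mul, mul_one, hS]
    exact ⟨⟨isCycle_swap hur, by rw [support_swap hur]⟩, ⟨isCycle_swap hur, by rw [support_swap hur]⟩⟩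
  · have hint : c.support ∩ (swap u r).support = {r} := by
      rw [hs, support_swap hur]
      ext z
      simp only [Finset.mem_inter, Finset.mem_insert, Finset.mem_singleton]
      exact ⟨fun h => h.2.resolve_left fun h' => hu (h' ▸ h.1), fun h => ⟨h ▸ hr, Or.inr h⟩⟩
    obtain ⟨h1, h2⟩ := isCycle_glue hcyc (isCycle_swap hur) hint
    obtain ⟨h3, h4⟩ := isCycle_glue (isCycle_swap hur) hcyc (by rw [Finset.inter_comm]; exact hint)
    refine ⟨⟨h1, ?_⟩, h3, ?_⟩
    · rw [h2, hs, support_swap hur]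
      ext z
      simp only [Finset.mem_union, Finset.mem_insert, Finset.mem_singleton]
      constructor
      · rintro (h | h | rfl) <;> simp [*]
      · rintro (h | h) <;> simp [*]
    · rw [h4, hs, support_swap hur]
      ext z
      simp only [Finset.mem_union, Finset.mem_insert, Finset.mem_singleton]
      constructor
      · rintro ((h | rfl) | h) <;> simp [*]
      · rintro (h | h) <;> simp [*]

theorem three_mul_three {u p w r : α} (hup : u ≠ p) (huw : u ≠ w) (hur : u ≠ r) (hpw : p ≠ w) (hpr : p ≠ r)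
    (hwr : w ≠ r) :
    ((swap u p * swap p w).IsThreeCycle ∧ (swap u p * swap p w).support ⊆ {u, p, w}) ∧
    ((swap u r * swap r w).IsThreeCycle ∧ (swap u r * swap r w).support ⊆ {u, r, w}) ∧
    swap u p * swap p w * (swap u r * swap r w) = swap u r * swap w p := by
  refine ⟨⟨?_, ?_⟩, ⟨?_, ?_⟩, ?_⟩
  · rw [swap_comm u p]; exact isThreeCycle_swap_mul_swap_same hup.symm hpw huw
  · intro z hz
    rw [mem_support] at hz
    simp only [Finset.mem_insert, Finset.mem_singleton]
    by_contra h
    push Not at h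
    exact hz (by rw [Perm.mul_apply, swap_apply_of_ne_of_ne h.2.1 h.2.2, swap_apply_of_ne_of_ne h.1 h.2.1])
  · rw [swap_comm u r]; exact isThreeCycle_swap_mul_swap_same hur.symm hwr.symm huw
  · intro z hz
    rw [mem_support] at hz
    simp only [Finset.mem_insert, Finset.mem_singleton]
    by_contra h
    push Not at h
    exact hz (by rw [Perm.mul_apply, swap_apply_of_ne_of_ne h.2.1 h.2.2, swap_apply_of_ne_of_ne h.1 h.2.1])
  · ext z
    simp only [Perm.mul_apply]
    rcases eq_or_ne z u with rfl | hzu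
    · simp [swap_apply_of_ne_of_ne, hup, huw, hur, hpw, hpr, hwr, hup.symm, huw.symm, hur.symm, hpw.symm,
        hpr.symm, hwr.symm]
    rcases eq_or_ne z p with rfl | hzp
    · simp [swap_apply_of_ne_of_ne, hup, huw, hur, hpw, hpr, hwr, hup.symm, huw.symm, hur.symm, hpw.symm,
        hpr.symm, hwr.symm]
    rcases eq_or_ne z w with rfl | hzw
    · simp [swap_apply_of_ne_of_ne, hup, huw, hur, hpw, hpr, hwr, hup.symm, huw.symm, hur.symm, hpw.symm,
        hpr.symm, hwr.symm]
    rcases eq_or_ne z r with rfl | hzr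
    · simp [swap_apply_of_ne_of_ne, hup, huw, hur, hpw, hpr, hwr, hup.symm, huw.symm, hur.symm, hpw.symm,
        hpr.symm, hwr.symm]
    simp [swap_apply_of_ne_of_ne, hzu, hzp, hzw, hzr]

/-- Two even cycles, second mode. -/
theorem fac_pair_glue {c d : Perm α} (hc : c.IsCycle) (hd : d.IsCycle) (hcd : Disjoint c d) {i j : ℕ}
    (hi : c.support.card = 2 * i) (hj : d.support.card = 2 * j) :
    Fac (c * d) (i + j - 2) ((-1 : ℤˣ) ^ (i + j - 2)) := by
  have hc2 := hc.two_le_card_support
  have hd2 := hd.two_le_card_support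
  obtain ⟨u, hu, r, hr, hur⟩ := Finset.one_lt_card.1 (show 1 < c.support.card by omega)
  obtain ⟨w, hw, p, hp, hwp⟩ := Finset.one_lt_card.1 (show 1 < d.support.card by omega)
  set A := c.support.erase u with hA
  set B := d.support.erase w with hB
  have hrA : r ∈ A := Finset.mem_erase.2 ⟨hur.symm, hr⟩
  have hpB : p ∈ B := Finset.mem_erase.2 ⟨hwp.symm, hp⟩
  have huA : u ∉ A := Finset.notMem_erase _ _
  have hwB : w ∉ B := Finset.notMem_erase _ _
  have hAc : A.card = 2 * (i - 1) + 1 := by rw [hA, Finset.card_erase_of_mem hu]; omega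
  have hBc : B.card = 2 * (j - 1) + 1 := by rw [hB, Finset.card_erase_of_mem hw]; omega
  obtain ⟨f, x₁, y₁, hf, hx₁, hy₁, hfs, hy₁r, tx₁, ty₁, hfc⟩ := exists_odd_piece A hrA hAc
  obtain ⟨g, x₀, y₀, hg, hx₀, hy₀, hgs, hy₀p, tx₀, ty₀, hgc⟩ := exists_odd_piece B hpB hBc
  haveI : Fact (Nat.Prime 2) := ⟨Nat.prime_two⟩
  have e1 : x₀⁻¹ = x₀ := inv_eq_of_mul_eq_one_right (by
    rw [← sq]; exact pow_prime_eq_one_iff.2 fun c hc => Multiset.eq_of_mem_replicate (tx₀ ▸ hc))
  have e2 : y₀⁻¹ = y₀ := inv_eq_of_mul_eq_one_right (by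
    rw [← sq]; exact pow_prime_eq_one_iff.2 fun c hc => Multiset.eq_of_mem_replicate (ty₀ ▸ hc))
  have hgi : g⁻¹ = y₀ * x₀ := by rw [hg, mul_inv_rev, e1, e2]
  have hdd := disjoint_iff_disjoint_support.1 hcd
  have hne : ∀ {a b : α}, a ∈ c.support → b ∈ d.support → a ≠ b := fun ha hb h =>
    Finset.disjoint_left.1 hdd ha (h ▸ hb)
  obtain ⟨⟨hL, hLs⟩, ⟨hR, hRs⟩, hLR⟩ := three_mul_three (hne hu hp) (hne hu hw) hur hwp.symm
    (hne hr hp).symm (hne hr hw).symm
  set L := swap u p * swap p w
  set R := swap u r * swap r w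
  -- the two glued cycles
  obtain ⟨hc', hcs'⟩ := (glue_swap hur hrA huA hAc hfs hfc).1
  obtain ⟨hd', hds'⟩ := (glue_swap (c := g⁻¹) hwp hpB hwB hBc (by rw [support_inv]; exact hgs)
    (hgc.imp (fun h => ⟨h.1, by rw [h.2, inv_one]⟩) fun h => ⟨h.1.inv, by rw [support_inv]; exact h.2⟩)).2
  set c' := f * swap u r
  set d' := swap w p * g⁻¹
  rw [hA, Finset.insert_erase hu] at hcs'
  rw [hB, Finset.insert_erase hw] at hds'
  have hAB : _root_.Disjoint A B := hdd.mono (Finset.erase_subset _ _) (Finset.erase_subset _ _)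
  have hyA : y₁.support ⊆ A.erase r := fun z hz =>
    Finset.mem_erase.2 ⟨fun h => mem_support.1 hz (h ▸ hy₁r), hy₁ hz⟩
  have hxB : y₀.support ⊆ B.erase p := fun z hz =>
    Finset.mem_erase.2 ⟨fun h => mem_support.1 hz (h ▸ hy₀p), hy₀ hz⟩
  have dyL : Disjoint y₁ L := disjoint_of_subsets hyA hLs (by
    rw [Finset.disjoint_left]
    intro z hz hz'
    simp only [Finset.mem_insert, Finset.mem_singleton] at hz'
    rw [hA, Finset.mem_erase, Finset.mem_erase] at hz
    rcases hz' with rfl | rfl | rfl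
    · exact hz.2.1 rfl
    · exact hne hz.2.2 hp rfl
    · exact hne hz.2.2 hw rfl)
  have dxR : Disjoint R y₀ := disjoint_of_subsets hRs hxB (by
    rw [Finset.disjoint_left]
    intro z hz' hz
    simp only [Finset.mem_insert, Finset.mem_singleton] at hz'
    rw [hB, Finset.mem_erase, Finset.mem_erase] at hz
    rcases hz' with rfl | rfl | rfl
    · exact hne hu hz.2.2 rfl
    · exact hne hr hz.2.2 rfl
    · exact hz.2.1 rfl)
  have dyy : Disjoint y₁ y₀ := disjoint_of_subsets hy₁ hy₀ hAB
  have dxx : Disjoint x₁ y₀ := disjoint_of_subsets hx₁ hy₀ hAB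
  have dLy : Disjoint L y₀ := disjoint_of_subsets hLs hxB (by
    rw [Finset.disjoint_left]
    intro z hz' hz
    simp only [Finset.mem_insert, Finset.mem_singleton] at hz'
    rw [hB, Finset.mem_erase, Finset.mem_erase] at hz
    rcases hz' with rfl | rfl | rfl
    · exact hne hu hz.2.2 rfl
    · exact hz.1 rfl
    · exact hz.2.1 rfl)
  have dyR : Disjoint y₁ R := disjoint_of_subsets hyA hRs (by
    rw [Finset.disjoint_left]
    intro z hz hz'
    simp only [Finset.mem_insert, Finset.mem_singleton] at hz'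
    rw [hA, Finset.mem_erase, Finset.mem_erase] at hz
    rcases hz' with rfl | rfl | rfl
    · exact hz.2.1 rfl
    · exact hz.1 rfl
    · exact hne hz.2.2 hw rfl)
  have dxL : Disjoint x₁ L := disjoint_of_subsets hx₁ hLs (by
    rw [Finset.disjoint_left]
    intro z hz hz'
    simp only [Finset.mem_insert, Finset.mem_singleton] at hz'
    rw [hA, Finset.mem_erase] at hz
    rcases hz' with rfl | rfl | rfl
    · exact hz.1 rfl
    · exact hne hz.2 hp rfl
    · exact hne hz.2 hw rfl)
  have dRx : Disjoint R x₀ := disjoint_of_subsets hRs hx₀ (by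
    rw [Finset.disjoint_left]
    intro z hz' hz
    simp only [Finset.mem_insert, Finset.mem_singleton] at hz'
    rw [hB, Finset.mem_erase] at hz
    rcases hz' with rfl | rfl | rfl
    · exact hne hu hz.2 rfl
    · exact hne hr hz.2 rfl
    · exact hz.1 rfl)
  have dy1x : Disjoint y₁ x₀ := disjoint_of_subsets hy₁ hx₀ hAB
  have d1 : Disjoint (x₁ * L) y₀ := dxx.mul_left dLy
  have d2 : Disjoint (y₁ * R) x₀ := dy1x.mul_left dRx
  have hprod : (x₁ * L * y₀) * (y₁ * R * x₀) = c' * d' := by
    rw [show c' = x₁ * y₁ * swap u r from congrArg (· * swap u r) hf,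
      show d' = swap w p * (y₀ * x₀) from congrArg (swap w p * ·) hgi]
    calc x₁ * L * y₀ * (y₁ * R * x₀) = x₁ * L * (y₀ * y₁) * R * x₀ := by group
      _ = x₁ * (L * y₁) * (y₀ * R) * x₀ := by rw [← dyy.commute.eq]; group
      _ = x₁ * y₁ * (L * R) * (y₀ * x₀) := by rw [← dyL.commute.eq, ← dxR.commute.eq]; group
      _ = _ := by rw [hLR]; group
  have dcd : Disjoint c' d' := disjoint_of_subsets hcs'.le hds'.le hdd
  have hsupp : (c' * d').support = c.support ∪ d.support := by rw [dcd.support_mul, hcs', hds']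
  refine Fac.of_cycleType (σ := c' * d') ⟨x₁ * L * y₀, y₁ * R * x₀, hprod.symm, ?_, ?_, ?_, ?_, ?_⟩ ?_
  · rw [d1.cycleType_mul, dxL.cycleType_mul, d2.cycleType_mul, dyR.cycleType_mul, tx₁, ty₁, tx₀, ty₀,
      hL.cycleType, hR.cycleType]
  · rw [hsupp]
    refine (support_mul_le _ _).trans (Finset.union_subset ((support_mul_le _ _).trans (Finset.union_subset ?_ ?_)) ?_)
    · exact hx₁.trans ((Finset.erase_subset _ _).trans Finset.subset_union_left)
    · exact hLs.trans (by
        intro z hz
        simp only [Finset.mem_insert, Finset.mem_singleton] at hz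
        rcases hz with rfl | rfl | rfl <;> simp [mem_support.1 hu, mem_support.1 hp, mem_support.1 hw])
    · exact hy₀.trans ((Finset.erase_subset _ _).trans Finset.subset_union_right)
  · rw [hsupp]
    refine (support_mul_le _ _).trans (Finset.union_subset ((support_mul_le _ _).trans (Finset.union_subset ?_ ?_)) ?_)
    · exact hy₁.trans ((Finset.erase_subset _ _).trans Finset.subset_union_left)
    · exact hRs.trans (by
        intro z hz
        simp only [Finset.mem_insert, Finset.mem_singleton] at hz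
        rcases hz with rfl | rfl | rfl <;> simp [mem_support.1 hu, mem_support.1 hr, mem_support.1 hw])
    · exact hx₀.trans ((Finset.erase_subset _ _).trans Finset.subset_union_right)
  · rw [d1.cycleType_mul, dxL.cycleType_mul, tx₁, ty₀, hL.cycleType]
    simp [Multiset.count_replicate_self]
    omega
  · rw [map_mul, map_mul, sign_replicate tx₁, sign_replicate ty₀, hL.sign, mul_one, ← pow_add]
    congr 1
    omega
  · rw [dcd.cycleType_mul, hc'.cycleType, hd'.cycleType, hcd.cycleType_mul, hc.cycleType, hd.cycleType,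
      hcs', hds']

end CfsgLib.Perm.ConjFactor
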