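import Mathlib

/-!
# Factorisations of permutations into two conjugates: the pieces

`Fac σ k e`: `σ = x * y` with `x, y` of the same cycle type, inside the support of `σ`, with at least
`k` transpositions among the cycles of `x` and `sign x = e`.
-/

set_option autoImplicit false
set_option linter.style.haveILetI false

namespace CfsgLib.Perm.ConjFactor

open Equiv Equiv.Perm

variable {α : Type*} [Fintype α] [DecidableEq α]

/-- `σ` is a product of two permutations of equal cycle type inside its support. -/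
def Fac (σ : Perm α) (k : ℕ) (e : ℤˣ) : Prop :=
  ∃ x y : Perm α, σ = x * y ∧ x.cycleType = y.cycleType ∧ x.support ⊆ σ.support ∧ y.support ⊆ σ.support ∧
    k ≤ x.cycleType.count 2 ∧ sign x = e

theorem Fac.mono {σ : Perm α} {k k' : ℕ} {e : ℤˣ} (h : Fac σ k e) (hk : k' ≤ k) : Fac σ k' e := by
  obtain ⟨x, y, h1, h2, h3, h4, h5, h6⟩ := h
  exact ⟨x, y, h1, h2, h3, h4, hk.trans h5, h6⟩

theorem Fac.mul {σ τ : Perm α} (hd : Disjoint σ τ) {k k' : ℕ} {e e' : ℤˣ} (h : Fac σ k e) (h' : Fac τ k' e') :
    Fac (σ * τ) (k + k') (e * e') := by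
  obtain ⟨x, y, rfl, hxy, hx, hy, hk, he⟩ := h
  obtain ⟨x', y', rfl, hxy', hx', hy', hk', he'⟩ := h'
  have hdd := disjoint_iff_disjoint_support.1 hd
  have dxx : Disjoint x x' := disjoint_iff_disjoint_support.2 (hdd.mono hx hx')
  have dyy : Disjoint y y' := disjoint_iff_disjoint_support.2 (hdd.mono hy hy')
  have dyx : Disjoint y x' := disjoint_iff_disjoint_support.2 (hdd.mono hy hx')
  refine ⟨x * x', y * y', ?_, ?_, ?_, ?_, ?_, ?_⟩
  · rw [mul_assoc x x', ← mul_assoc x' y, ← dyx.commute.eq, mul_assoc y, ← mul_assoc x y]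
  · rw [dxx.cycleType_mul, dyy.cycleType_mul, hxy, hxy']
  · rw [dxx.support_mul, hd.support_mul]; exact Finset.union_subset_union hx hx'
  · rw [dyy.support_mul, hd.support_mul]; exact Finset.union_subset_union hy hy'
  · rw [dxx.cycleType_mul, Multiset.count_add]; exact Nat.add_le_add hk hk'
  · rw [map_mul, he, he']

theorem Fac.conj {σ : Perm α} {k : ℕ} {e : ℤˣ} (c : Perm α) (h : Fac σ k e) : Fac (c * σ * c⁻¹) k e := by
  obtain ⟨x, y, rfl, hxy, hx, hy, hk, he⟩ := h
  refine ⟨c * x * c⁻¹, c * y * c⁻¹, by group, by rw [cycleType_conj, cycleType_conj, hxy],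
    ?_, ?_, by rwa [cycleType_conj], ?_⟩
  · rw [support_conj, support_conj]; exact Finset.map_subset_map.2 hx
  · rw [support_conj, support_conj]; exact Finset.map_subset_map.2 hy
  · rw [map_mul, map_mul, map_inv, he, mul_comm (sign c), mul_assoc, mul_inv_cancel, mul_one]

theorem Fac.of_cycleType {σ τ : Perm α} {k : ℕ} {e : ℤˣ} (h : Fac σ k e) (hc : σ.cycleType = τ.cycleType) :
    Fac τ k e := by
  obtain ⟨c, rfl⟩ := isConj_iff.1 (isConj_of_cycleType_eq hc)
  exact h.conj c

/-- A permutation with only odd cycles is a square of a permutation of the same cycle type. -/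
theorem fac_sqrt {σ : Perm α} (hodd : Odd (orderOf σ)) : Fac σ 0 1 := by
  obtain ⟨m, hm⟩ := hodd
  have hσ : (σ ^ (m + 1)) ^ 2 = σ := by
    rw [← pow_mul, show (m + 1) * 2 = (2 * m + 1) + 1 by ring, pow_succ, ← hm, pow_orderOf_eq_one, one_mul]
  refine ⟨σ ^ (m + 1), σ ^ (m + 1), by rw [← sq, hσ], rfl, support_pow_le σ _, support_pow_le σ _,
    Nat.zero_le _, ?_⟩
  have h1 : sign σ = 1 := by
    have h2 := congrArg sign (pow_orderOf_eq_one σ)
    rw [map_pow, map_one, hm, pow_succ, pow_mul, Int.units_sq, one_pow, one_mul] at h2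
    exact h2
  rw [map_pow, h1, one_pow]

/-- An involution has only transpositions as cycles. -/
theorem cycleType_involution {x : Perm α} (h : x ^ 2 = 1) :
    x.cycleType = Multiset.replicate (x.support.card / 2) 2 := by
  haveI : Fact (Nat.Prime 2) := ⟨Nat.prime_two⟩
  have h1 := cycleType_of_pow_prime_eq_one (p := 2) h
  have h2 : x.support.card = x.cycleType.card * 2 := by
    rw [← sum_cycleType]
    conv_lhs => rw [h1]
    simp
  rw [h2, Nat.mul_div_cancel _ two_pos]
  exact h1

theorem sign_replicate {x : Perm α} {k : ℕ} (h : x.cycleType = Multiset.replicate k 2) :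
    sign x = (-1 : ℤˣ) ^ k := by
  rw [sign_of_cycleType, h, Multiset.sum_replicate, Multiset.card_replicate, smul_eq_mul, pow_add,
    mul_comm k 2, pow_mul, Int.units_sq, one_pow, one_mul]

/-- Glueing two cycles at one point. -/
theorem isCycle_glue {f g : Perm α} (hf : f.IsCycle) (hg : g.IsCycle) {v : α}
    (hv : f.support ∩ g.support = {v}) :
    (f * g).IsCycle ∧ (f * g).support = f.support ∪ g.support := by
  have hvf : v ∈ f.support := (Finset.mem_inter.1 (hv ▸ Finset.mem_singleton_self v)).1
  have hvg : v ∈ g.support := (Finset.mem_inter.1 (hv ▸ Finset.mem_singleton_self v)).2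
  have honly : ∀ z, z ∈ f.support → z ∈ g.support → z = v := fun z h1 h2 =>
    Finset.mem_singleton.1 (hv ▸ Finset.mem_inter.2 ⟨h1, h2⟩)
  set h := f * g with hh
  have hg_step : ∀ z ∈ g.support, g z ≠ v → h z = g z := fun z hz hne => by
    rw [hh, Perm.mul_apply]
    exact notMem_support.1 fun hf' => hne (honly _ hf' (apply_mem_support.2 hz))
  have hG : ∀ z, g.SameCycle v z → h.SameCycle v z := by
    intro z hz
    obtain ⟨i, rfl⟩ := hz.exists_nat_pow_eq
    clear hz
    induction i with
    | zero => exact SameCycle.refl _ _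
    | succ i ih =>
      rw [pow_succ', Perm.mul_apply]
      by_cases hne : g ((g ^ i) v) = v
      · rw [hne]
      · rw [← hg_step _ (pow_apply_mem_support.2 hvg) hne]
        exact sameCycle_apply_right.2 ih
  have hgsupp : ∀ z ∈ g.support, h.SameCycle v z := fun z hz =>
    hG z (hg.sameCycle (mem_support.1 hvg) (mem_support.1 hz))
  have hfv : h.SameCycle v (f v) := by
    have h1 := sameCycle_apply_right.2 (hgsupp (g.symm v) (by
      rw [← apply_mem_support, g.apply_symm_apply]; exact hvg))
    rw [show h (g.symm v) = f v by rw [hh, Perm.mul_apply, g.apply_symm_apply]] at h1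
    exact h1
  have hfsupp : ∀ z ∈ f.support, h.SameCycle v z := by
    intro z hz
    obtain ⟨i, rfl⟩ := (hf.sameCycle (mem_support.1 hvf) (mem_support.1 hz)).exists_nat_pow_eq
    clear hz
    induction i with
    | zero => exact SameCycle.refl _ _
    | succ i ih =>
      rw [pow_succ', Perm.mul_apply]
      by_cases hne : (f ^ i) v = v
      · rw [hne]; exact hfv
      · have hstep : h ((f ^ i) v) = f ((f ^ i) v) := by
          rw [hh, Perm.mul_apply, notMem_support.1 fun hg' => hne (honly _ (pow_apply_mem_support.2 hvf) hg')]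
        rw [← hstep]
        exact sameCycle_apply_right.2 ih
  have hall : ∀ z ∈ f.support ∪ g.support, h.SameCycle v z := fun z hz =>
    (Finset.mem_union.1 hz).elim (hfsupp z) (hgsupp z)
  have hvm : h v ≠ v := by
    intro h0
    obtain ⟨z, hz, hzv⟩ : ∃ z ∈ f.support, z ≠ v :=
      Finset.exists_mem_ne hf.two_le_card_support v
    exact hzv ((hfsupp z hz).eq_of_left h0).symm
  have hsub : h.support ⊆ f.support ∪ g.support := support_mul_le f g
  refine ⟨⟨v, hvm, fun z hz => hall z (hsub (mem_support.2 hz))⟩, le_antisymm hsub fun z hz => ?_⟩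
  rw [mem_support]
  exact fun h0 => hvm (((hall z hz).apply_eq_self_iff).2 h0)

/-- Solutions of `i + i = a` in `ZMod m`: the fixed points of the reflection `i ↦ a - i`. -/
def refl (m : ℕ) (a : ZMod m) : Perm (ZMod m) := Equiv.subLeft a

theorem refl_card_odd {m : ℕ} [NeZero m] (hm : Odd m) (a : ZMod m) : (refl m a).support.card = m - 1 := by
  obtain ⟨M, rfl⟩ := hm
  have h2 : (2 : ZMod (2 * M + 1)) * ((M + 1 : ℕ) : ZMod (2 * M + 1)) = 1 := by
    have h0 : ((2 * M + 1 : ℕ) : ZMod (2 * M + 1)) = 0 := ZMod.natCast_self _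
    push_cast at h0 ⊢
    linear_combination h0
  have hfix : (refl (2 * M + 1) a).supportᶜ = {a * ((M + 1 : ℕ) : ZMod (2 * M + 1))} := by
    ext i
    rw [Finset.mem_compl, mem_support, not_not, Finset.mem_singleton, refl, Equiv.subLeft_apply]
    refine ⟨fun h => ?_, fun h => ?_⟩
    · calc i = (2 * ((M + 1 : ℕ) : ZMod (2 * M + 1))) * i := by rw [h2, one_mul]
        _ = (i + i) * ((M + 1 : ℕ) : ZMod (2 * M + 1)) := by ring
        _ = _ := by rw [show i + i = a by linear_combination -h]
    · rw [h]
      linear_combination -a * h2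
  have := congrArg Finset.card hfix
  rw [Finset.card_compl, Finset.card_singleton, ZMod.card] at this
  have hle := Finset.card_le_univ (refl (2 * M + 1) a).support
  rw [ZMod.card] at hle
  omega

theorem refl_card_even_odd {m : ℕ} [NeZero m] (hm : Even m) : (refl m 1).support.card = m := by
  have : (refl m 1).support = Finset.univ := Finset.eq_univ_iff_forall.2 fun i => by
    rw [mem_support, refl, Equiv.subLeft_apply]
    intro h
    have h1 := congrArg (ZMod.castHom hm.two_dvd (ZMod 2)) (show i + i = 1 by linear_combination -h)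
    rw [map_add, map_one] at h1
    revert h1
    generalize ZMod.castHom hm.two_dvd (ZMod 2) i = z
    revert z
    decide
  rw [this, Finset.card_univ, ZMod.card]

theorem refl_card_even_zero {m : ℕ} [NeZero m] (hm : Even m) (b : ZMod m) :
    (refl m (b + b)).support.card = m - 2 := by
  obtain ⟨M, rfl⟩ := hm
  have hM : 0 < M := by
    have := NeZero.ne (M + M)
    omega
  have hfix : (refl (M + M) (b + b)).supportᶜ = {b, b + (M : ZMod (M + M))} := by
    ext i
    rw [Finset.mem_compl, mem_support, not_not, Finset.mem_insert, Finset.mem_singleton, refl,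
      Equiv.subLeft_apply]
    refine ⟨fun h => ?_, ?_⟩
    · have h1 : (((i - b).val + (i - b).val : ℕ) : ZMod (M + M)) = 0 := by
        rw [Nat.cast_add, ZMod.natCast_zmod_val]
        linear_combination -h
      rw [ZMod.natCast_eq_zero_iff] at h1
      have hlt := ZMod.val_lt (i - b)
      have hcases : (i - b).val = 0 ∨ (i - b).val = M := by
        obtain ⟨q, hq⟩ := h1
        rcases Nat.lt_or_ge q 2 with hq2 | hq2
        · interval_cases q <;> omega
        · have := Nat.mul_le_mul_left (M + M) hq2
          omega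
      rcases hcases with h2 | h2
      · exact Or.inl (sub_eq_zero.1 ((ZMod.val_eq_zero _).1 h2))
      · refine Or.inr (sub_eq_iff_eq_add'.1 ?_)
        rw [← ZMod.natCast_zmod_val (i - b), h2]
    · have h0 : ((M + M : ℕ) : ZMod (M + M)) = 0 := ZMod.natCast_self _
      push_cast at h0
      rintro (rfl | rfl)
      · ring
      · linear_combination -h0
  have := congrArg Finset.card hfix
  rw [Finset.card_compl, Finset.card_pair, ZMod.card] at this
  · have hle := Finset.card_le_univ (refl (M + M) (b + b)).support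
    rw [ZMod.card] at hle
    omega
  · intro h
    have h1 : ((M : ℕ) : ZMod (M + M)) = 0 := by linear_combination -h
    rw [ZMod.natCast_eq_zero_iff] at h1
    have := Nat.le_of_dvd hM h1
    omega

/-- The model cycle. -/
def shift (m : ℕ) : Perm (ZMod m) := Equiv.addRight 1

theorem shift_eq (m : ℕ) (a : ZMod m) : refl m (a + 1) * refl m a = shift m := by
  ext i
  simp only [Perm.mul_apply, refl, shift, Equiv.subLeft_apply, Equiv.coe_addRight]
  ring

theorem refl_sq (m : ℕ) (a : ZMod m) : refl m a ^ 2 = 1 := by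
  ext i
  simp [sq, refl]

theorem shift_isCycle {m : ℕ} [NeZero m] (hm : 2 ≤ m) :
    (shift m).IsCycle ∧ (shift m).support = Finset.univ := by
  haveI : Fact (1 < m) := ⟨by omega⟩
  have h1 : ∀ x : ZMod m, shift m x ≠ x := fun x h => one_ne_zero (α := ZMod m) (by simpa [shift] using h)
  have hpow : ∀ k : ℕ, ∀ x : ZMod m, (shift m ^ k) x = x + k := by
    intro k
    induction k with
    | zero => simp
    | succ k ih =>
      intro x
      rw [pow_succ', Perm.mul_apply, ih, Nat.cast_succ, ← add_assoc]
      rfl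
  refine ⟨⟨0, h1 0, fun y _ => ⟨(y.val : ℤ), ?_⟩⟩, Finset.eq_univ_iff_forall.2 fun x => mem_support.2 (h1 x)⟩
  rw [zpow_natCast, hpow, ZMod.natCast_zmod_val, zero_add]

/-- A cycle on a prescribed set as a product of two involutions, one fixing a prescribed point. -/
theorem exists_refl_pieces {S : Finset α} {v : α} (hv : v ∈ S) {m : ℕ} [NeZero m] (hm : S.card = m)
    (hm2 : 2 ≤ m) (a b : ZMod m) (hb : b + b = a) :
    ∃ c x y : Perm α, c.IsCycle ∧ c.support = S ∧ c = x * y ∧ x ^ 2 = 1 ∧ y ^ 2 = 1 ∧ x.support ⊆ S ∧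
      y.support ⊆ S ∧ y v = v ∧ x.support.card = (refl m (a + 1)).support.card ∧
      y.support.card = (refl m a).support.card := by
  let e₀ : {z // z ∈ S} ≃ ZMod m := Fintype.equivOfCardEq (by rw [Fintype.card_coe, hm, ZMod.card])
  let e := e₀.trans (Equiv.swap (e₀ ⟨v, hv⟩) b)
  have hev : e ⟨v, hv⟩ = b := Equiv.swap_apply_left _ _
  let F : Perm (ZMod m) →* Perm α :=
    (Perm.ofSubtype (p := fun z => z ∈ S)).comp e.symm.permCongrHom.toMonoidHom
  have hsupp : ∀ π, (F π).support ⊆ S := by
    intro π z hz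
    by_contra hzS
    exact mem_support.1 hz (ofSubtype_apply_of_not_mem _ hzS)
  have happ : ∀ π, ∀ z : {z // z ∈ S}, F π z = (e.symm (π (e z)) : α) := fun π z => ofSubtype_apply_coe _ z
  have hcard : ∀ π : Perm (ZMod m), (F π).support.card = π.support.card := by
    intro π
    refine (Finset.card_bij (fun i _ => (e.symm i : α)) (fun i hi => ?_) (fun i _ j _ h => ?_) (fun z hz => ?_)).symm
    · rw [mem_support, happ, e.apply_symm_apply]
      exact fun h => mem_support.1 hi (e.symm.injective (Subtype.ext h))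
    · exact e.symm.injective (Subtype.ext h)
    · refine ⟨e ⟨z, hsupp π hz⟩, mem_support.2 fun h => mem_support.1 hz ?_, by rw [e.symm_apply_apply]⟩
      rw [show F π z = _ from happ π ⟨z, hsupp π hz⟩, h, e.symm_apply_apply]
  have hinj : Function.Injective F := fun π π' h => by
    refine Equiv.ext fun i => e.symm.injective (Subtype.ext ?_)
    have := DFunLike.congr_fun h (e.symm i : α)
    rwa [happ, happ, e.apply_symm_apply] at this
  obtain ⟨hc1, hc2⟩ := shift_isCycle (m := m) hm2
  have hcs : (F (shift m)).support = S := Finset.eq_of_subset_of_card_le (hsupp _)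
    (by rw [hcard, hc2, Finset.card_univ, ZMod.card, hm])
  have hcyc : (F (shift m)).IsCycle := by
    obtain ⟨i, hi, hall⟩ := hc1
    refine ⟨(e.symm i : α), ?_, fun z hz => ?_⟩
    · rw [happ, e.apply_symm_apply]
      exact fun h => hi (e.symm.injective (Subtype.ext h))
    · have hzS : z ∈ S := hsupp _ (mem_support.2 hz)
      obtain ⟨k, hk⟩ := hall (mem_support.1 (hc2 ▸ Finset.mem_univ (e ⟨z, hzS⟩)))
      refine ⟨k, ?_⟩
      rw [← map_zpow, happ, e.apply_symm_apply, hk, e.symm_apply_apply]
  refine ⟨F (shift m), F (refl m (a + 1)), F (refl m a), hcyc, hcs, by rw [← map_mul, shift_eq],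
    by rw [← map_pow, refl_sq, map_one], by rw [← map_pow, refl_sq, map_one], hsupp _, hsupp _, ?_,
    hcard _, hcard _⟩
  · rw [happ (refl m a) ⟨v, hv⟩, hev, refl, Equiv.subLeft_apply, ← hb, add_sub_cancel_right, ← hev,
      e.symm_apply_apply]

end CfsgLib.Perm.ConjFactor
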